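import Mathlib

/-!
# Sections of unramified algebras modulo an ideal give principal-open neighbourhoods

Let `E` be an unramified `A`-algebra of finite type, `I ⊆ A` an ideal and `s : E → A/I` an
`A`-algebra map. Then there is `g : E` such that `A' = E[1/g]` satisfies `A/I ≃ A'/IA'` and
`E → A' → A'/IA'` is `s` followed by this bijection.
-/

open scoped TensorProduct

namespace Groth.Agent.Helper7.EtaleSection

universe u v

theorem exists_elem {A : Type u} {E : Type v} [CommRing A] [CommRing E] [Algebra A E]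
    [Algebra.FormallyUnramified A E] [Algebra.EssFiniteType A E] (I : Ideal A)
    (s : E →ₐ[A] A ⧸ I) :
    ∃ g : E, s g = 1 ∧ ∀ (x : E) (a : A), s x = Ideal.Quotient.mk I a →
      (algebraMap A E a - x) * g ∈ I.map (algebraMap A E) := by
  set J := I.map (algebraMap A E) with hJ
  let π : E →ₐ[A] E ⧸ J := Ideal.Quotient.mkₐ A J
  let ι : A ⧸ I →ₐ[A] E ⧸ J := IsScalarTower.toAlgHom A (A ⧸ I) (E ⧸ J)
  let Φ : E ⊗[A] E →ₐ[A] E ⧸ J := Algebra.TensorProduct.productMap π (ι.comp s)
  let t := Algebra.FormallyUnramified.elem A E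
  obtain ⟨g, hg⟩ := Ideal.Quotient.mk_surjective (Φ t)
  have hs : ∀ j ∈ J, s j = 0 := by
    intro j hj
    have hle : J ≤ RingHom.ker s.toRingHom := by
      rw [hJ, Ideal.map_le_iff_le_comap]
      intro i hi
      simp only [Ideal.mem_comap, RingHom.mem_ker, AlgHom.toRingHom_eq_coe, RingHom.coe_coe,
        AlgHom.commutes]
      exact Ideal.Quotient.eq_zero_iff_mem.mpr hi
    exact hle hj
  let sbar : E ⧸ J →ₐ[A] A ⧸ I := Ideal.Quotient.liftₐ J s hs
  have hsbarπ : ∀ x, sbar (Ideal.Quotient.mk J x) = s x := fun x => rfl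
  have hsbarι : ∀ y, sbar (ι y) = y := by
    intro y
    obtain ⟨a, rfl⟩ := Ideal.Quotient.mk_surjective y
    have : ι (Ideal.Quotient.mk I a) = Ideal.Quotient.mk J (algebraMap A E a) := rfl
    rw [this, hsbarπ, AlgHom.commutes]
    rfl
  have h1 : sbar.comp Φ = s.comp (Algebra.TensorProduct.lmul' A) := by
    apply Algebra.TensorProduct.ext'
    intro x y
    simp only [AlgHom.comp_apply, Φ, Algebra.TensorProduct.productMap_apply_tmul,
      Algebra.TensorProduct.lmul'_apply_tmul, map_mul]
    rw [hsbarι]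
    rfl
  refine ⟨g, ?_, ?_⟩
  · rw [← hsbarπ, hg]
    have := congrArg (fun f => f t) h1
    simp only [AlgHom.comp_apply] at this
    rw [this, Algebra.FormallyUnramified.lmul_elem, map_one]
  · intro x a hxa
    rw [← Ideal.Quotient.eq_zero_iff_mem, map_mul, hg]
    have h2 := Algebra.FormallyUnramified.one_tmul_sub_tmul_one_mul_elem (R := A) (S := E) x
    have h3 := congrArg Φ h2
    rw [map_mul, map_zero, map_sub] at h3
    simp only [Φ, Algebra.TensorProduct.productMap_apply_tmul, map_one, one_mul, mul_one] at h3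
    have h4 : (ι.comp s) x = Ideal.Quotient.mk J (algebraMap A E a) := by
      rw [AlgHom.comp_apply, hxa]; rfl
    rw [h4] at h3
    rw [map_sub]
    exact h3

theorem away_bijective {A : Type u} {E : Type v} [CommRing A] [CommRing E] [Algebra A E]
    (I : Ideal A) (s : E →ₐ[A] A ⧸ I) (g : E) (hg1 : s g = 1)
    (hg2 : ∀ (x : E) (a : A), s x = Ideal.Quotient.mk I a →
      (algebraMap A E a - x) * g ∈ I.map (algebraMap A E))
    (A' : Type*) [CommRing A'] [Algebra E A'] [Algebra A A'] [IsScalarTower A E A']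
    [IsLocalization.Away g A'] :
    Function.Bijective (algebraMap (A ⧸ I) (A' ⧸ I.map (algebraMap A A'))) ∧
    ∀ x : E, algebraMap (A ⧸ I) (A' ⧸ I.map (algebraMap A A')) (s x) =
      Ideal.Quotient.mk _ (algebraMap E A' x) := by
  set J := I.map (algebraMap A E) with hJ
  set J' := I.map (algebraMap A A') with hJ'
  have hJJ' : J' = J.map (algebraMap E A') := by
    rw [hJ, hJ', Ideal.map_map, ← IsScalarTower.algebraMap_eq]
  have hgu : IsUnit (algebraMap E A' g) := IsLocalization.Away.algebraMap_isUnit g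
  have hsJ : ∀ j ∈ J, s j = 0 := by
    intro j hj
    have hle : J ≤ RingHom.ker s.toRingHom := by
      rw [hJ, Ideal.map_le_iff_le_comap]
      intro i hi
      simp only [Ideal.mem_comap, RingHom.mem_ker, AlgHom.toRingHom_eq_coe, RingHom.coe_coe,
        AlgHom.commutes]
      exact Ideal.Quotient.eq_zero_iff_mem.mpr hi
    exact hle hj
  have hcompat : ∀ x : E, algebraMap (A ⧸ I) (A' ⧸ J') (s x) =
      Ideal.Quotient.mk _ (algebraMap E A' x) := by
    intro x
    obtain ⟨a, ha⟩ := Ideal.Quotient.mk_surjective (s x)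
    have h1 := hg2 x a ha.symm
    have h2 : algebraMap E A' ((algebraMap A E a - x) * g) ∈ J' := by
      rw [hJJ']; exact Ideal.mem_map_of_mem _ h1
    rw [map_mul, map_sub, ← IsScalarTower.algebraMap_apply] at h2
    have h3 : algebraMap A A' a - algebraMap E A' x ∈ J' := by
      obtain ⟨u, hu⟩ := hgu
      have := J'.mul_mem_right (↑u⁻¹ : A') h2
      rwa [← hu, mul_assoc, Units.mul_inv, mul_one] at this
    rw [← ha]
    have : algebraMap (A ⧸ I) (A' ⧸ J') (Ideal.Quotient.mk I a)
        = Ideal.Quotient.mk J' (algebraMap A A' a) := rfl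
    rw [this]
    exact (Ideal.Quotient.eq).mpr h3
  have hg1' : Ideal.Quotient.mk J' (algebraMap E A' g) = 1 := by
    rw [← hcompat, hg1, map_one]
  refine ⟨⟨?_, ?_⟩, hcompat⟩
  · rw [injective_iff_map_eq_zero]
    intro abar h0
    obtain ⟨a, rfl⟩ := Ideal.Quotient.mk_surjective abar
    have h1 : algebraMap (A ⧸ I) (A' ⧸ J') (Ideal.Quotient.mk I a)
        = Ideal.Quotient.mk J' (algebraMap A A' a) := rfl
    rw [h1, Ideal.Quotient.eq_zero_iff_mem, hJJ', IsScalarTower.algebraMap_apply A E A',
      IsLocalization.mem_map_algebraMap_iff (Submonoid.powers g)] at h0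
    obtain ⟨⟨j, ⟨_, n, rfl⟩⟩, hj⟩ := h0
    rw [← map_mul, IsLocalization.eq_iff_exists (Submonoid.powers g)] at hj
    obtain ⟨⟨_, m, rfl⟩, hm⟩ := hj
    simp only at hm
    have h2 := congrArg s hm
    rw [map_mul, map_mul, map_mul, map_pow, map_pow, hg1, one_pow, one_pow, one_mul, one_mul,
      mul_one, hsJ _ j.2, AlgHom.commutes] at h2
    exact h2
  · intro y
    obtain ⟨y, rfl⟩ := Ideal.Quotient.mk_surjective y
    obtain ⟨x, ⟨_, n, rfl⟩, rfl⟩ := IsLocalization.exists_mk'_eq (Submonoid.powers g) y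
    refine ⟨s x, ?_⟩
    rw [hcompat]
    set c : Submonoid.powers g := ⟨g ^ n, n, rfl⟩ with hc
    have h3 : algebraMap E A' (g ^ n) * IsLocalization.mk' A' x c = algebraMap E A' x :=
      IsLocalization.mk'_spec' A' x c
    rw [← h3, map_mul, map_pow, map_pow, hg1', one_pow, one_mul]

/-- Main statement: a section modulo `I` of an unramified finite type algebra `E` yields a
principal localisation `A' = E[1/g]` with `A/I ≃ A'/IA'` compatible with the section. -/
theorem exists_away {A : Type u} {E : Type v} [CommRing A] [CommRing E] [Algebra A E]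
    [Algebra.FormallyUnramified A E] [Algebra.EssFiniteType A E] (I : Ideal A)
    (s : E →ₐ[A] A ⧸ I) :
    ∃ g : E, Function.Bijective (algebraMap (A ⧸ I)
        (Localization.Away g ⧸ I.map (algebraMap A (Localization.Away g)))) ∧
      ∀ x : E, algebraMap (A ⧸ I)
        (Localization.Away g ⧸ I.map (algebraMap A (Localization.Away g))) (s x) =
        Ideal.Quotient.mk _ (algebraMap E (Localization.Away g) x) := by
  obtain ⟨g, hg1, hg2⟩ := exists_elem I s
  exact ⟨g, away_bijective I s g hg1 hg2 (Localization.Away g)⟩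

end Groth.Agent.Helper7.EtaleSection
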