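import Mathlib
import Groth.Agent.Lib.Helper7.CAlg.EtaleSection

/-!
# Lifting coprime monic factorisations to an étale neighbourhood of `V(I)`
-/

open scoped TensorProduct Polynomial
open Polynomial

namespace Groth.Agent.Helper7.MonicFactorLift

universe u

section
variable {R : Type u} [CommRing R] (n m k : ℕ) (hn : n = m + k) (p : MonicDegreeEq R n)
variable (S : Type u) [CommRing S] [Algebra R S]

theorem homEquiv_fst (f : UniversalCoprimeFactorizationRing m k hn p →ₐ[R] S) :
    ((UniversalCoprimeFactorizationRing.homEquiv S m k hn p) f).1.1.1 =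
      (UniversalCoprimeFactorizationRing.factor₁ m k hn p).1.map f.toRingHom := by
  simp [UniversalCoprimeFactorizationRing.homEquiv, UniversalFactorizationRing.homEquiv,
    UniversalCoprimeFactorizationRing.factor₁, MonicDegreeEq.map, Polynomial.map_map]
  rfl

theorem homEquiv_snd (f : UniversalCoprimeFactorizationRing m k hn p →ₐ[R] S) :
    ((UniversalCoprimeFactorizationRing.homEquiv S m k hn p) f).1.2.1 =
      (UniversalCoprimeFactorizationRing.factor₂ m k hn p).1.map f.toRingHom := by
  simp [UniversalCoprimeFactorizationRing.homEquiv, UniversalFactorizationRing.homEquiv,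
    UniversalCoprimeFactorizationRing.factor₂, MonicDegreeEq.map, Polynomial.map_map]
  rfl

end

/-- Abstract version: a coprime monic factorisation over an étale algebra `E` together with a
section `s : E → A/I`. -/
theorem exists_of_section {A E : Type u} [CommRing A] [CommRing E] [Algebra A E]
    [Algebra.Etale A E] (I : Ideal A) (s : E →ₐ[A] A ⧸ I) (f : A[X]) (G H : E[X])
    (hG : G.Monic) (hH : H.Monic) (hcop : IsCoprime G H)
    (hGH : f.map (algebraMap A E) = G * H) :
    ∃ (A' : Type u) (_ : CommRing A') (_ : Algebra A A'), Algebra.Etale A A' ∧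
      Function.Bijective (algebraMap (A ⧸ I) (A' ⧸ I.map (algebraMap A A'))) ∧
      ∃ g' h' : A'[X], g'.Monic ∧ h'.Monic ∧ IsCoprime g' h' ∧
        f.map (algebraMap A A') = g' * h' ∧
        g'.map (Ideal.Quotient.mk (I.map (algebraMap A A'))) =
          (G.map s.toRingHom).map (algebraMap (A ⧸ I) (A' ⧸ I.map (algebraMap A A'))) ∧
        h'.map (Ideal.Quotient.mk (I.map (algebraMap A A'))) =
          (H.map s.toRingHom).map (algebraMap (A ⧸ I) (A' ⧸ I.map (algebraMap A A'))) := by
  obtain ⟨g₀, hbij, hcompat⟩ := Groth.Agent.Helper7.EtaleSection.exists_away I s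
  have hEt : Algebra.Etale E (Localization.Away g₀) := Algebra.Etale.of_isLocalizationAway g₀
  have hEt' : Algebra.Etale A (Localization.Away g₀) := Algebra.Etale.comp A E _
  have hringhom : (Ideal.Quotient.mk (I.map (algebraMap A (Localization.Away g₀)))).comp
      (algebraMap E (Localization.Away g₀)) =
      (algebraMap (A ⧸ I) (Localization.Away g₀ ⧸ I.map (algebraMap A (Localization.Away g₀)))).comp
        s.toRingHom := by
    ext x
    exact (hcompat x).symm
  refine ⟨Localization.Away g₀, inferInstance, inferInstance, hEt', hbij,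
    G.map (algebraMap E _), H.map (algebraMap E _), hG.map _, hH.map _, ?_, ?_, ?_, ?_⟩
  · exact hcop.map (Polynomial.mapRingHom (algebraMap E (Localization.Away g₀)))
  · rw [← Polynomial.map_mul, ← hGH, Polynomial.map_map, ← IsScalarTower.algebraMap_eq]
  · rw [Polynomial.map_map, hringhom, ← Polynomial.map_map]
  · rw [Polynomial.map_map, hringhom, ← Polynomial.map_map]

/-- Coprime monic factorisations modulo `I` lift to an étale `A`-algebra `A'` with
`A/I ≃ A'/IA'`; moreover the lifted factors are coprime. -/
theorem exists_etale_lift_factorization {A : Type u} [CommRing A] (I : Ideal A) (f : A[X])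
    (hf : f.Monic) (g h : (A ⧸ I)[X]) (hg : g.Monic) (hh : h.Monic) (hcop : IsCoprime g h)
    (hfgh : f.map (Ideal.Quotient.mk I) = g * h) :
    ∃ (A' : Type u) (_ : CommRing A') (_ : Algebra A A'), Algebra.Etale A A' ∧
      Function.Bijective (algebraMap (A ⧸ I) (A' ⧸ I.map (algebraMap A A'))) ∧
      ∃ g' h' : A'[X], g'.Monic ∧ h'.Monic ∧ IsCoprime g' h' ∧
        f.map (algebraMap A A') = g' * h' ∧
        g'.map (Ideal.Quotient.mk (I.map (algebraMap A A'))) =
          g.map (algebraMap (A ⧸ I) (A' ⧸ I.map (algebraMap A A'))) ∧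
        h'.map (Ideal.Quotient.mk (I.map (algebraMap A A'))) =
          h.map (algebraMap (A ⧸ I) (A' ⧸ I.map (algebraMap A A'))) := by
  classical
  rcases subsingleton_or_nontrivial (A ⧸ I) with hsub | hnt
  · -- trivial case `I = ⊤`
    have hI : I = ⊤ := Ideal.Quotient.subsingleton_iff.mp hsub
    have hsub' : Subsingleton (A ⧸ I.map (algebraMap A A)) := by
      rw [Ideal.Quotient.subsingleton_iff, hI, Ideal.map_top]
    refine ⟨A, inferInstance, inferInstance, inferInstance, ?_, f, 1, ?_, monic_one,
      isCoprime_one_right, ?_, Subsingleton.elim _ _, Subsingleton.elim _ _⟩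
    · exact ⟨fun x y _ => Subsingleton.elim _ _, fun y => ⟨0, Subsingleton.elim _ _⟩⟩
    · exact hf
    · simp
  · set n := f.natDegree with hn'
    set m := g.natDegree with hm'
    set k := h.natDegree with hk'
    have hn : n = m + k := by
      have h1 : (f.map (Ideal.Quotient.mk I)).natDegree = n := hf.natDegree_map _
      rw [hfgh, hg.natDegree_mul hh] at h1
      exact h1.symm
    let p : MonicDegreeEq A n := .mk f hf rfl
    let q : { q : MonicDegreeEq (A ⧸ I) m × MonicDegreeEq (A ⧸ I) k //
        q.1.1 * q.2.1 = p.1.map (algebraMap A (A ⧸ I)) ∧ IsCoprime q.1.1 q.2.1 } :=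
      ⟨(.mk g hg rfl, .mk h hh rfl), hfgh.symm, hcop⟩
    let s : UniversalCoprimeFactorizationRing m k hn p →ₐ[A] A ⧸ I :=
      (UniversalCoprimeFactorizationRing.homEquiv (A ⧸ I) m k hn p).symm q
    have hs : (UniversalCoprimeFactorizationRing.homEquiv (A ⧸ I) m k hn p) s = q :=
      Equiv.apply_symm_apply _ _
    have hs1 : (UniversalCoprimeFactorizationRing.factor₁ m k hn p).1.map s.toRingHom = g := by
      rw [← homEquiv_fst, hs]; rfl
    have hs2 : (UniversalCoprimeFactorizationRing.factor₂ m k hn p).1.map s.toRingHom = h := by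
      rw [← homEquiv_snd, hs]; rfl
    have hmul : f.map (algebraMap A (UniversalCoprimeFactorizationRing m k hn p)) =
        (UniversalCoprimeFactorizationRing.factor₁ m k hn p).1 *
          (UniversalCoprimeFactorizationRing.factor₂ m k hn p).1 := by
      rw [UniversalCoprimeFactorizationRing.factor₁_mul_factor₂]
      rfl
    have := exists_of_section I s f _ _
      (UniversalCoprimeFactorizationRing.factor₁ m k hn p).monic
      (UniversalCoprimeFactorizationRing.factor₂ m k hn p).monic
      (UniversalCoprimeFactorizationRing.isCoprime_factor₁_factor₂ m k hn p) hmul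
    rw [hs1, hs2] at this
    exact this

end Groth.Agent.Helper7.MonicFactorLift
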