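import Mathlib
import Groth.Agent.Lib.Helper7.CAlg.MonicFactorLift

/-!
# Lifting coprime factorisations with unit leading coefficient to an étale neighbourhood
-/

open Polynomial

namespace Groth.Agent.Helper7.MonicFactorLift

universe u

/-- The section `A' → A/I` attached to a bijection `A/I ≃ A'/IA'`. -/
theorem exists_section {A A' : Type u} [CommRing A] [CommRing A'] [Algebra A A'] (I : Ideal A)
    (hbij : Function.Bijective (algebraMap (A ⧸ I) (A' ⧸ I.map (algebraMap A A')))) :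
    ∃ s : A' →ₐ[A] A ⧸ I, ∀ x : A',
      algebraMap (A ⧸ I) (A' ⧸ I.map (algebraMap A A')) (s x) = Ideal.Quotient.mk _ x := by
  set e : (A ⧸ I) ≃+* (A' ⧸ I.map (algebraMap A A')) := RingEquiv.ofBijective _ hbij with he
  have hcomm : ∀ a : A, algebraMap (A ⧸ I) (A' ⧸ I.map (algebraMap A A')) (Ideal.Quotient.mk I a)
      = Ideal.Quotient.mk _ (algebraMap A A' a) := fun a => rfl
  refine ⟨{ toRingHom := e.symm.toRingHom.comp (Ideal.Quotient.mk _), commutes' := ?_ }, ?_⟩
  · intro a
    show e.symm (Ideal.Quotient.mk _ (algebraMap A A' a)) = _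
    rw [← hcomm a]
    exact e.symm_apply_apply (Ideal.Quotient.mk I a)
  · intro x
    show e (e.symm (Ideal.Quotient.mk _ x)) = _
    exact e.apply_symm_apply _

theorem exists_etale_lift_factorization_of_isUnit_leadingCoeff {A : Type u} [CommRing A]
    (I : Ideal A) (f : A[X]) (hf : f.Monic) (g h : (A ⧸ I)[X]) (hlead : IsUnit g.leadingCoeff)
    (hcop : IsCoprime g h) (hfgh : f.map (Ideal.Quotient.mk I) = g * h) :
    ∃ (A' : Type u) (_ : CommRing A') (_ : Algebra A A'), Algebra.Etale A A' ∧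
      Function.Bijective (algebraMap (A ⧸ I) (A' ⧸ I.map (algebraMap A A'))) ∧
      ∃ g' h' : A'[X], f.map (algebraMap A A') = g' * h' ∧
        g'.map (Ideal.Quotient.mk (I.map (algebraMap A A'))) =
          g.map (algebraMap (A ⧸ I) (A' ⧸ I.map (algebraMap A A'))) ∧
        h'.map (Ideal.Quotient.mk (I.map (algebraMap A A'))) =
          h.map (algebraMap (A ⧸ I) (A' ⧸ I.map (algebraMap A A'))) := by
  classical
  obtain ⟨u, hu⟩ := hlead
  set g₁ : (A ⧸ I)[X] := C (↑u⁻¹ : A ⧸ I) * g with hg₁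
  set h₁ : (A ⧸ I)[X] := C (↑u : A ⧸ I) * h with hh₁
  have hCC : (C (↑u⁻¹ : A ⧸ I) : (A ⧸ I)[X]) * C (↑u : A ⧸ I) = 1 := by
    rw [← C_mul, Units.inv_mul, C_1]
  have hCC' : (C (↑u : A ⧸ I) : (A ⧸ I)[X]) * C (↑u⁻¹ : A ⧸ I) = 1 := by
    rw [← C_mul, Units.mul_inv, C_1]
  have hg₁m : g₁.Monic := by
    apply Polynomial.monic_C_mul_of_mul_leadingCoeff_eq_one
    rw [← hu, Units.inv_mul]
  have hprod : g₁ * h₁ = g * h := by
    rw [hg₁, hh₁]
    calc C (↑u⁻¹ : A ⧸ I) * g * (C (↑u : A ⧸ I) * h)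
        = (C (↑u⁻¹ : A ⧸ I) * C (↑u : A ⧸ I)) * (g * h) := by ring
      _ = g * h := by rw [hCC, one_mul]
  have hh₁m : h₁.Monic := by
    apply hg₁m.of_mul_monic_left
    rw [hprod, ← hfgh]
    exact hf.map _
  have hcop₁ : IsCoprime g₁ h₁ := by
    have hu1 : IsUnit (C (↑u⁻¹ : A ⧸ I) : (A ⧸ I)[X]) := IsUnit.of_mul_eq_one _ hCC
    have hu2 : IsUnit (C (↑u : A ⧸ I) : (A ⧸ I)[X]) := IsUnit.of_mul_eq_one _ hCC'
    rw [hg₁, hh₁, isCoprime_mul_unit_left_left hu1, isCoprime_mul_unit_left_right hu2]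
    exact hcop
  obtain ⟨A', _, _, hetale, hbij, g₁', h₁', -, -, -, hfac, hg', hh'⟩ :=
    exists_etale_lift_factorization I f hf g₁ h₁ hg₁m hh₁m hcop₁ (by rw [hprod, hfgh])
  obtain ⟨s, hs⟩ := exists_section I hbij
  have hs_alg : ∀ a : A, s (algebraMap A A' a) = Ideal.Quotient.mk I a := fun a => s.commutes a
  have hs_surj : Function.Surjective s := by
    intro y
    obtain ⟨a, rfl⟩ := Ideal.Quotient.mk_surjective y
    exact ⟨algebraMap A A' a, hs_alg a⟩
  obtain ⟨ũ, hũ⟩ := hs_surj (↑u : A ⧸ I)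
  -- reductions of the monic lifts along `s`
  have hmk : (algebraMap (A ⧸ I) (A' ⧸ I.map (algebraMap A A'))).comp s.toRingHom
      = Ideal.Quotient.mk _ := by
    ext x
    exact hs x
  have hg₁s : g₁'.map s.toRingHom = g₁ := by
    apply Polynomial.map_injective _ hbij.1
    rw [Polynomial.map_map, hmk, hg']
  have hh₁s : h₁'.map s.toRingHom = h₁ := by
    apply Polynomial.map_injective _ hbij.1
    rw [Polynomial.map_map, hmk, hh']
  -- invert the lift of the leading coefficient
  let E := Localization.Away ũ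
  have hEt1 : Algebra.Etale A' E := Algebra.Etale.of_isLocalizationAway ũ
  have hEt2 : Algebra.Etale A E := Algebra.Etale.comp A A' E
  have hunit : ∀ y : Submonoid.powers ũ, IsUnit (s (y : A')) := by
    rintro ⟨_, n, rfl⟩
    rw [map_pow, hũ]
    exact (u.isUnit).pow n
  let s' : E →ₐ[A] A ⧸ I := IsLocalization.liftAlgHom (M := Submonoid.powers ũ) (f := s) hunit
  have hs' : ∀ x : A', s' (algebraMap A' E x) = s x := fun x =>
    IsLocalization.lift_eq _ x
  obtain ⟨g₀, hbij', hcompat⟩ := Groth.Agent.Helper7.EtaleSection.exists_away I s'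
  have hEt3 : Algebra.Etale E (Localization.Away g₀) := Algebra.Etale.of_isLocalizationAway g₀
  have hEt4 : Algebra.Etale A (Localization.Away g₀) := Algebra.Etale.comp A E _
  set ι : (A ⧸ I) →+* (Localization.Away g₀ ⧸ I.map (algebraMap A (Localization.Away g₀))) :=
    algebraMap _ _ with hι
  set φ : A' →+* Localization.Away g₀ :=
    (algebraMap E (Localization.Away g₀)).comp (algebraMap A' E) with hφ
  have hφA : φ.comp (algebraMap A A') = algebraMap A (Localization.Away g₀) := by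
    rw [hφ, RingHom.comp_assoc, ← IsScalarTower.algebraMap_eq, ← IsScalarTower.algebraMap_eq]
  have hcompat' : (Ideal.Quotient.mk (I.map (algebraMap A (Localization.Away g₀)))).comp φ
      = ι.comp s.toRingHom := by
    ext x
    have := hcompat (algebraMap A' E x)
    rw [hs'] at this
    exact this.symm
  have hunitE : IsUnit (algebraMap A' E ũ) := IsLocalization.Away.algebraMap_isUnit ũ
  have hunit'' : IsUnit (φ ũ) := hunitE.map (algebraMap E (Localization.Away g₀))
  obtain ⟨w, hw⟩ := hunit''.exists_right_inv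
  have hmkũ : Ideal.Quotient.mk (I.map (algebraMap A (Localization.Away g₀))) (φ ũ)
      = ι (↑u : A ⧸ I) := by
    have := RingHom.congr_fun hcompat' ũ
    simp only [RingHom.comp_apply] at this
    rw [this]
    congr 1
  have hmkw : Ideal.Quotient.mk (I.map (algebraMap A (Localization.Away g₀))) w
      = ι (↑u⁻¹ : A ⧸ I) := by
    have h1 : ι (↑u : A ⧸ I) * Ideal.Quotient.mk _ w = 1 := by
      rw [← hmkũ, ← map_mul, hw, map_one]
    have h2 : ι (↑u⁻¹ : A ⧸ I) * ι (↑u : A ⧸ I) = 1 := by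
      rw [← map_mul, Units.inv_mul, map_one]
    exact (left_inv_eq_right_inv h2 h1).symm
  refine ⟨Localization.Away g₀, inferInstance, inferInstance, hEt4, hbij',
    C (φ ũ) * g₁'.map φ, C w * h₁'.map φ, ?_, ?_, ?_⟩
  · calc f.map (algebraMap A (Localization.Away g₀))
        = (f.map (algebraMap A A')).map φ := by rw [Polynomial.map_map, hφA]
      _ = g₁'.map φ * h₁'.map φ := by rw [hfac, Polynomial.map_mul]
      _ = C (φ ũ * w) * (g₁'.map φ * h₁'.map φ) := by rw [hw, C_1, one_mul]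
      _ = C (φ ũ) * g₁'.map φ * (C w * h₁'.map φ) := by rw [C_mul]; ring
  · rw [Polynomial.map_mul, Polynomial.map_C, Polynomial.map_map, hcompat', ← Polynomial.map_map,
      hg₁s, hmkũ, ← Polynomial.map_C, ← Polynomial.map_mul, hg₁, ← mul_assoc, hCC', one_mul]
  · rw [Polynomial.map_mul, Polynomial.map_C, Polynomial.map_map, hcompat', ← Polynomial.map_map,
      hh₁s, hmkw, ← Polynomial.map_C, ← Polynomial.map_mul, hh₁, ← mul_assoc, hCC, one_mul]

end Groth.Agent.Helper7.MonicFactorLift
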