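import Mathlib
import Groth.Agent.Lib.Helper7.CAlg.MonicFactorLift

/-!
# Lifting idempotents of `B/IB` for integral `A → B` to an étale neighbourhood of `V(I)`
-/

open scoped TensorProduct Polynomial
open Polynomial

namespace Groth.Agent.Helper7.IdempotentLift

universe u

/-- A monic polynomial killing `c ∈ IB` whose reduction mod `I` is a power `X ^ (d+1)`. -/
theorem exists_monic_map_eq_X_pow {A B : Type u} [CommRing A] [CommRing B] [Algebra A B]
    [Algebra.IsIntegral A B] (I : Ideal A) (c : B) (hc : c ∈ I.map (algebraMap A B)) :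
    ∃ (P : A[X]) (d : ℕ), P.Monic ∧ aeval c P = 0 ∧
      P.map (Ideal.Quotient.mk I) = X ^ (d + 1) := by
  obtain ⟨p, hp, hpc, hpI⟩ := Polynomial.exists_monic_aeval_eq_zero_forall_mem_of_mem_map hc
  refine ⟨p * X, p.natDegree, hp.mul monic_X, by simp [hpc], ?_⟩
  rw [Polynomial.map_mul, map_X, pow_succ]
  congr 1
  ext i
  rw [coeff_map, coeff_X_pow]
  split_ifs with hi
  · rw [hi, hp.coeff_natDegree, map_one]
  · exact Ideal.Quotient.eq_zero_iff_mem.mpr (hpI i hi)

theorem main {A B : Type u} [CommRing A] [CommRing B] [Algebra A B]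
    [Algebra.IsIntegral A B] (I : Ideal A) (e : B ⧸ I.map (algebraMap A B))
    (he : IsIdempotentElem e) :
    ∃ (A' : Type u) (_ : CommRing A') (_ : Algebra A A'), Algebra.Etale A A' ∧
      Function.Bijective (algebraMap (A ⧸ I) (A' ⧸ I.map (algebraMap A A'))) ∧
      ∃ e' : A' ⊗[A] B, IsIdempotentElem e' ∧
        ∀ b : B, Ideal.Quotient.mk (I.map (algebraMap A B)) b = e →
          e' - 1 ⊗ₜ b ∈ I.map (algebraMap A (A' ⊗[A] B)) := by
  classical
  rcases subsingleton_or_nontrivial A with hA | hA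
  · have : Subsingleton (A ⊗[A] B) := Module.subsingleton A _
    exact ⟨A, inferInstance, inferInstance, inferInstance,
      ⟨fun x y _ => Subsingleton.elim _ _, fun y => ⟨0, Subsingleton.elim _ _⟩⟩, 0,
      Subsingleton.elim _ _, fun b _ => by rw [Subsingleton.elim (0 - _) 0]; exact zero_mem _⟩
  obtain ⟨b₀, hb₀⟩ := Ideal.Quotient.mk_surjective e
  have hc : b₀ ^ 2 - b₀ ∈ I.map (algebraMap A B) := by
    rw [← Ideal.Quotient.eq, map_pow, hb₀, pow_two]
    exact he
  obtain ⟨P, d, hP, hPc, hPI⟩ := exists_monic_map_eq_X_pow I _ hc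
  set D := d + 1 with hD
  have hq : (X ^ 2 - X : A[X]).Monic :=
    monic_X_pow_sub (degree_X_le.trans_lt (by norm_num))
  have hqdeg : (X ^ 2 - X : A[X]).natDegree ≠ 0 := by
    rw [natDegree_sub_eq_left_of_natDegree_lt (by rw [natDegree_X_pow, natDegree_X]; norm_num),
      natDegree_X_pow]
    norm_num
  set f := P.comp (X ^ 2 - X) with hf
  have hfm : f.Monic := hP.comp hq hqdeg
  have hfb : aeval b₀ f = 0 := by
    rw [hf, aeval_comp]
    simpa using hPc
  have hfmap : f.map (Ideal.Quotient.mk I) = X ^ D * (X - C 1) ^ D := by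
    rw [hf, Polynomial.map_comp, hPI, X_pow_comp, ← mul_pow]
    congr 1
    simp only [Polynomial.map_sub, Polynomial.map_pow, map_X, map_one]
    ring
  have hcop : IsCoprime (X ^ D : (A ⧸ I)[X]) ((X - C 1) ^ D) :=
    IsCoprime.pow ⟨1, -1, by rw [C_1]; ring⟩
  obtain ⟨A', i1, i2, hEt, hbij, g', h', hg', hh', ⟨u, v, huv⟩, hmul, e1, e2⟩ :=
    Groth.Agent.Helper7.MonicFactorLift.exists_etale_lift_factorization I f hfm _ _
      (monic_X_pow D) ((monic_X_sub_C 1).pow D) hcop hfmap
  refine ⟨A', i1, i2, hEt, hbij, ?_⟩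
  set β : A' ⊗[A] B := 1 ⊗ₜ b₀ with hβ
  have hfβ : aeval β (f.map (algebraMap A A')) = 0 := by
    rw [aeval_map_algebraMap]
    have : β = (Algebra.TensorProduct.includeRight : B →ₐ[A] A' ⊗[A] B) b₀ := rfl
    rw [this, aeval_algHom_apply, hfb, map_zero]
  refine ⟨aeval β (u * g'), ?_, ?_⟩
  · -- idempotent
    have h1 : aeval β (u * g') + aeval β (v * h') = 1 := by
      rw [← map_add, huv, map_one]
    have h2 : aeval β (u * g') * aeval β (v * h') = 0 := by
      rw [← map_mul]
      have : u * g' * (v * h') = u * v * (g' * h') := by ring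
      rw [this, ← hmul, map_mul, hfβ, mul_zero]
    have h3 : aeval β (v * h') = 1 - aeval β (u * g') := by rw [← h1]; ring
    rw [h3, mul_sub, mul_one, sub_eq_zero] at h2
    exact h2.symm
  · intro b hb
    set JB' := I.map (algebraMap A (A' ⊗[A] B)) with hJB'
    let π := Ideal.Quotient.mk JB'
    -- `1 ⊗ b ≡ 1 ⊗ b₀`
    have hincl : ∀ x ∈ I.map (algebraMap A B), (1 : A') ⊗ₜ[A] x ∈ JB' := by
      intro x hx
      have hle : I.map (algebraMap A B) ≤ JB'.comap
          (Algebra.TensorProduct.includeRight : B →ₐ[A] A' ⊗[A] B).toRingHom := by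
        rw [Ideal.map_le_iff_le_comap]
        intro i hi
        simp only [Ideal.mem_comap, AlgHom.toRingHom_eq_coe, RingHom.coe_coe, AlgHom.commutes]
        exact Ideal.mem_map_of_mem _ hi
      exact hle hx
    have hbb₀ : π (1 ⊗ₜ b) = π β := by
      rw [Ideal.Quotient.eq, hβ, ← TensorProduct.tmul_sub]
      apply hincl
      rw [← Ideal.Quotient.eq, hb, hb₀]
    have hββ : π β * π β = π β := by
      rw [← map_mul, Ideal.Quotient.eq, hβ, Algebra.TensorProduct.tmul_mul_tmul, one_mul,
        ← TensorProduct.tmul_sub]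
      apply hincl
      rw [← pow_two]; exact hc
    -- the ring hom `A' → Q` kills `I A'`
    let ψ : A' →+* (A' ⊗[A] B) ⧸ JB' := π.comp (algebraMap A' (A' ⊗[A] B))
    have hψ : ∀ a ∈ I.map (algebraMap A A'), ψ a = 0 := by
      intro a ha
      have hle : I.map (algebraMap A A') ≤ RingHom.ker ψ := by
        rw [Ideal.map_le_iff_le_comap]
        intro i hi
        simp only [Ideal.mem_comap, RingHom.mem_ker, ψ, RingHom.comp_apply,
          ← IsScalarTower.algebraMap_apply]
        exact Ideal.Quotient.eq_zero_iff_mem.mpr (Ideal.mem_map_of_mem _ hi)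
      exact hle ha
    let ψbar : A' ⧸ I.map (algebraMap A A') →+* (A' ⊗[A] B) ⧸ JB' :=
      Ideal.Quotient.lift _ ψ hψ
    have hψbar : ψbar.comp (Ideal.Quotient.mk _) = ψ := by
      ext a; rfl
    have hev : ∀ r : A'[X], π (aeval β r) = eval₂ ψ (π β) r := by
      intro r
      rw [aeval_def, hom_eval₂]
    have hev' : ∀ r : A'[X], eval₂ ψ (π β) r
        = eval₂ ψbar (π β) (r.map (Ideal.Quotient.mk _)) := by
      intro r
      rw [eval₂_map, hψbar]
    have hg'β : π (aeval β g') = π β := by
      rw [hev, hev', e1, Polynomial.map_pow, map_X, eval₂_pow, eval₂_X, hD, pow_succ]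
      have : ∀ n : ℕ, π β ^ n * π β = π β := by
        intro n
        induction n with
        | zero => simp
        | succ n ih => rw [pow_succ, mul_assoc, hββ, ih]
      exact this d
    have hh'β : π (aeval β h') = (π β - 1) ^ D := by
      rw [hev, hev', e2]
      simp [Polynomial.map_pow, eval₂_pow, eval₂_sub, eval₂_X, eval₂_one]
    have hkey : π (aeval β u) * π β + π (aeval β v) * (π β - 1) ^ D = 1 := by
      have h0 := congrArg π (congrArg (aeval β) huv)
      simp only [map_add, map_mul, map_one] at h0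
      rw [hg'β, hh'β] at h0
      exact h0
    have hzero : (π β - 1) ^ D * π β = 0 := by
      rw [hD, pow_succ, mul_assoc, sub_mul, one_mul, hββ, sub_self, mul_zero]
    have hfinal : π (aeval β u) * π β = π β := by
      have := congrArg (fun z => z * π β) hkey
      simp only [add_mul, one_mul, mul_assoc, hββ, hzero, mul_zero, add_zero] at this
      exact this
    rw [← Ideal.Quotient.eq]
    change π (aeval β (u * g')) = π (1 ⊗ₜ b)
    rw [hbb₀, map_mul, map_mul, hg'β, hfinal]

end Groth.Agent.Helper7.IdempotentLift
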