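import Mathlib.RingTheory.Smooth.IntegralClosure
import Mathlib.RingTheory.Nilpotent.Lemmas

/-! Reducedness ascends along smooth ring maps. -/

namespace Groth.Agent.Helper7

open Polynomial TensorProduct

/-- Over a domain, a polynomial integral over the constants is constant. -/
lemma natDegree_eq_zero_of_isIntegral_domain {D : Type*} [CommRing D] [IsDomain D] (p : D[X])
    (hp : IsIntegral D p) : p.natDegree = 0 := by
  obtain ⟨f, hf, hfp⟩ := hp
  have h1 : f.comp p = 0 := by
    rw [← hfp]
    rfl
  have h2 := Polynomial.natDegree_comp (p := f) (q := p)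
  rw [h1, natDegree_zero] at h2
  have hfdeg : f.natDegree ≠ 0 := by
    intro h0
    have hf1 : f = 1 := by
      have := hf.natDegree_eq_zero.mp h0
      exact this
    rw [hf1, one_comp] at h1
    exact one_ne_zero h1
  rcases mul_eq_zero.mp h2.symm with h | h
  · exact absurd h hfdeg
  · exact h

/-- Over a reduced ring, a polynomial integral over the constants is constant. -/
lemma coeff_eq_zero_of_isIntegral_of_isReduced {R : Type*} [CommRing R] [IsReduced R] (p : R[X])
    (hp : IsIntegral R p) (n : ℕ) (hn : n ≠ 0) : p.coeff n = 0 := by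
  apply (isNilpotent_iff_eq_zero (x := p.coeff n)).mp
  rw [← mem_nilradical, nilradical_eq_sInf, Ideal.mem_sInf]
  intro q hq
  have hq' : q.IsPrime := hq
  let φ : R[X] →ₐ[R] (R ⧸ q)[X] := Polynomial.mapAlg R (R ⧸ q)
  have h1 : IsIntegral R (φ p) := hp.map φ
  have h2 : IsIntegral (R ⧸ q) (φ p) := h1.tower_top
  have h3 := natDegree_eq_zero_of_isIntegral_domain (φ p) h2
  have h4 : (φ p).coeff n = 0 := by
    apply Polynomial.coeff_eq_zero_of_natDegree_lt
    rw [h3]
    exact Nat.pos_of_ne_zero hn
  have h5 : (φ p).coeff n = Ideal.Quotient.mk q (p.coeff n) := by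
    simp [φ, Polynomial.mapAlg_eq_map, Polynomial.coeff_map]
  rw [h5] at h4
  exact Ideal.Quotient.eq_zero_iff_mem.mp h4

/-- S9407 -/
theorem isReduced_of_smooth (R : Type*) [CommRing R] (S : Type*) [CommRing S]
    [Algebra R S] [Algebra.Smooth R S] [IsReduced R] : IsReduced S := by
  constructor
  intro s hs
  -- the element `s ⊗ X` is nilpotent hence integral
  set y : S ⊗[R] R[X] := s ⊗ₜ[R] (X : R[X]) with hy
  have hynil : IsNilpotent y := by
    obtain ⟨n, hn⟩ := hs
    refine ⟨n, ?_⟩
    rw [hy, Algebra.TensorProduct.tmul_pow, hn, zero_tmul]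
  have hyint : IsIntegral S y := by
    obtain ⟨n, hn⟩ := hynil
    exact ⟨X ^ n, monic_X_pow n, by simp [hn]⟩
  -- the coefficient of `X`
  let c1 : S ⊗[R] R[X] →ₗ[R] S ⊗[R] R := LinearMap.lTensor S (Polynomial.lcoeff R 1)
  have key : ∀ z : S ⊗[R] integralClosure R R[X], c1 ((Algebra.TensorProduct.map (AlgHom.id S S)
      (integralClosure R R[X]).val) z) = 0 := by
    intro z
    induction z using TensorProduct.induction_on with
    | zero => simp
    | tmul a b =>
      have hb : (b : R[X]).coeff 1 = 0 :=
        coeff_eq_zero_of_isIntegral_of_isReduced (b : R[X]) b.2 1 one_ne_zero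
      simp [c1, hb]
    | add a b ha hb => rw [map_add, map_add, ha, hb, add_zero]
  obtain ⟨z, hz⟩ := (TensorProduct.toIntegralClosure_bijective_of_smooth (R := R) (S := S)
    (B := R[X])).2 ⟨y, hyint⟩
  have hz' : (Algebra.TensorProduct.map (AlgHom.id S S) (integralClosure R R[X]).val) z = y := by
    have := congrArg Subtype.val hz
    simpa [TensorProduct.toIntegralClosure] using this
  have hc1y : c1 y = s ⊗ₜ[R] (1 : R) := by
    simp [c1, hy]
  have hc1z := key z
  rw [hz', hc1y] at hc1z
  have := congrArg (TensorProduct.rid R S) hc1z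
  simpa using this

end Groth.Agent.Helper7
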