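import Mathlib

set_option autoImplicit false

open TensorProduct

universe u

namespace Groth.Agent.Helper7.EtaleLift

open Algebra in
theorem exists_etale_lift (R : Type u) [CommRing R] (I : Ideal R) (Sb : Type u)
    [CommRing Sb] [Algebra (R ⧸ I) Sb] [Algebra.Etale (R ⧸ I) Sb] :
    ∃ (S : Type u) (_ : CommRing S) (_ : Algebra R S), Algebra.Etale R S ∧
      Nonempty (((R ⧸ I) ⊗[R] S) ≃ₐ[R ⧸ I] Sb) := by
  classical
  have h0 : Algebra.IsStandardSmoothOfRelativeDimension 0 (R ⧸ I) Sb :=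
    Algebra.Etale.iff_isStandardSmoothOfRelativeDimension_zero.mp inferInstance
  obtain ⟨ι, σ, hσ, hι, P, hP⟩ := h0.out
  let _ : Fintype σ := Fintype.ofFinite σ
  let _ : Algebra R Sb := ((algebraMap (R ⧸ I) Sb).comp (Ideal.Quotient.mk I)).toAlgebra
  have : IsScalarTower R (R ⧸ I) Sb := IsScalarTower.of_algebraMap_eq (fun _ => rfl)
  have hcoef : P.HasCoeffs R :=
    ⟨fun x _ => Ideal.Quotient.mk_surjective x⟩
  let P₀ : PreSubmersivePresentation R (P.toPresentation.ModelOfHasCoeffs R) ι σ :=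
    P.toPreSubmersivePresentation.ofHasCoeffs R
  let Q : PreSubmersivePresentation (P.toPresentation.ModelOfHasCoeffs R)
      (Localization.Away P₀.jacobian) Unit Unit :=
    PreSubmersivePresentation.localizationAway (Localization.Away P₀.jacobian) P₀.jacobian
  let QP : SubmersivePresentation R (Localization.Away P₀.jacobian) (Unit ⊕ ι) (Unit ⊕ σ) :=
    { Q.comp P₀ with
      jacobian_isUnit := by
        rw [PreSubmersivePresentation.comp_jacobian_eq_jacobian_smul_jacobian, Algebra.smul_def,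
          PreSubmersivePresentation.localizationAway_jacobian, IsUnit.mul_iff, and_self]
        exact IsLocalization.map_units _ (⟨P₀.jacobian, 1, by simp⟩ : Submonoid.powers P₀.jacobian) }
  have hdim : QP.dimension = 0 := by
    have h1 : Nat.card ι - Nat.card σ = 0 := hP
    change Nat.card (Unit ⊕ ι) - Nat.card (Unit ⊕ σ) = 0
    rw [Nat.card_sum, Nat.card_sum]
    omega
  have hstd : Algebra.IsStandardSmoothOfRelativeDimension 0 R (Localization.Away P₀.jacobian) :=
    QP.isStandardSmoothOfRelativeDimension hdim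
  have hEt : Algebra.Etale R (Localization.Away P₀.jacobian) :=
    Algebra.Etale.iff_isStandardSmoothOfRelativeDimension_zero.mpr hstd
  refine ⟨Localization.Away P₀.jacobian, inferInstance, inferInstance, hEt, ?_⟩
  let e₀ : (R ⧸ I) ⊗[R] (P.toPresentation.ModelOfHasCoeffs R) ≃ₐ[R ⧸ I] Sb :=
    P.toPresentation.tensorModelOfHasCoeffsEquiv R
  have hjac : e₀ ((1 : R ⧸ I) ⊗ₜ[R] P₀.jacobian) = P.jacobian := by
    rw [PreSubmersivePresentation.jacobian_eq_jacobiMatrix_det]
    have h1 := P.aeval_jacobianOfHasCoeffs R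
    refine Eq.trans ?_ h1
    refine (Presentation.tensorModelOfHasCoeffsEquiv_tmul (P := P.toPresentation) R (1 : R ⧸ I)
      P₀.jacobiMatrix.det).trans ?_
    rw [map_one, one_mul]
    rfl
  let g₀ : (P.toPresentation.ModelOfHasCoeffs R) →ₐ[R] Sb :=
    (e₀.toAlgHom.restrictScalars R).comp Algebra.TensorProduct.includeRight
  have hg₀ : ∀ m, g₀ m = e₀ ((1 : R ⧸ I) ⊗ₜ[R] m) := fun m => rfl
  have hunits : ∀ y : Submonoid.powers P₀.jacobian, IsUnit (g₀ y) := by
    rintro ⟨_, n, rfl⟩
    change IsUnit (g₀ (P₀.jacobian ^ n))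
    rw [map_pow, hg₀, hjac]
    exact P.jacobian_isUnit.pow n
  let g : Localization.Away P₀.jacobian →ₐ[R] Sb := IsLocalization.liftAlgHom hunits
  have hg : ∀ m, g (algebraMap _ _ m) = g₀ m := fun m => IsLocalization.lift_eq hunits m
  let α : (R ⧸ I) ⊗[R] Localization.Away P₀.jacobian →ₐ[R ⧸ I] Sb :=
    Algebra.TensorProduct.lift (Algebra.ofId (R ⧸ I) Sb) g (fun _ _ => Commute.all _ _)
  let β : Sb →ₐ[R ⧸ I] (R ⧸ I) ⊗[R] Localization.Away P₀.jacobian :=
    (Algebra.TensorProduct.map (AlgHom.id (R ⧸ I) (R ⧸ I))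
      (IsScalarTower.toAlgHom R (P.toPresentation.ModelOfHasCoeffs R)
        (Localization.Away P₀.jacobian))).comp e₀.symm.toAlgHom
  have hαβ' : ∀ t : (R ⧸ I) ⊗[R] (P.toPresentation.ModelOfHasCoeffs R),
      α (Algebra.TensorProduct.map (AlgHom.id (R ⧸ I) (R ⧸ I))
      (IsScalarTower.toAlgHom R (P.toPresentation.ModelOfHasCoeffs R)
        (Localization.Away P₀.jacobian)) t) = e₀ t := by
    intro t
    induction t with
    | zero => simp
    | tmul a m =>
      rw [Algebra.TensorProduct.map_tmul, AlgHom.id_apply, Algebra.TensorProduct.lift_tmul]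
      change algebraMap (R ⧸ I) Sb a * g (algebraMap _ _ m) = _
      rw [hg, hg₀, ← Algebra.smul_def, ← map_smul, TensorProduct.smul_tmul', smul_eq_mul, mul_one]
    | add x y hx hy => rw [map_add, map_add, map_add, hx, hy]
  have hαβ : α.comp β = AlgHom.id (R ⧸ I) Sb := by
    ext x
    change α (Algebra.TensorProduct.map _ _ (e₀.symm x)) = x
    rw [hαβ', AlgEquiv.apply_symm_apply]
  have hβα : β.comp α = AlgHom.id (R ⧸ I) _ := by
    apply Algebra.TensorProduct.ext
    · ext
    · apply IsLocalization.algHom_ext (Submonoid.powers P₀.jacobian)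
      ext m
      change β (α ((1 : R ⧸ I) ⊗ₜ[R] algebraMap _ _ m)) = (1 : R ⧸ I) ⊗ₜ[R] algebraMap _ _ m
      rw [Algebra.TensorProduct.lift_tmul, map_one, one_mul, hg, hg₀]
      change Algebra.TensorProduct.map _ _ (e₀.symm (e₀ _)) = _
      rw [AlgEquiv.symm_apply_apply, Algebra.TensorProduct.map_tmul]
      rfl
  exact ⟨AlgEquiv.ofAlgHom α β hαβ hβα⟩

end Groth.Agent.Helper7.EtaleLift
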