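import Mathlib

/-! Étale algebras realising finite separable residue field extensions (S9435). -/

open Polynomial

universe u

namespace Groth.Agent.Helper7.EtaleRes

variable {R : Type u} [CommRing R] (p : Ideal R) [p.IsPrime]

/-- common denominators in the residue field -/
theorem exists_common_denom (S : Finset p.ResidueField) :
    ∃ s : R, s ∉ p ∧ ∀ x ∈ S, ∃ a : R, algebraMap R p.ResidueField s * x = algebraMap R p.ResidueField a := by
  obtain ⟨b, hb⟩ := IsLocalization.exist_integer_multiples_of_finset (nonZeroDivisors (R ⧸ p)) S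
  obtain ⟨s, hs⟩ := Ideal.Quotient.mk_surjective (b : R ⧸ p)
  refine ⟨s, ?_, fun x hx => ?_⟩
  · intro hsp
    have : (b : R ⧸ p) = 0 := by rw [← hs]; exact Ideal.Quotient.eq_zero_iff_mem.mpr hsp
    exact nonZeroDivisors.coe_ne_zero b this
  · obtain ⟨a', ha'⟩ := hb x hx
    obtain ⟨a, rfl⟩ := Ideal.Quotient.mk_surjective a'
    refine ⟨a, ?_⟩
    rw [Ideal.algebraMap_quotient_residueField_mk] at ha'
    rw [ha', Algebra.smul_def, ← hs, Ideal.algebraMap_quotient_residueField_mk]

theorem exists_frac (x : p.ResidueField) :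
    ∃ a b : R, b ∉ p ∧ algebraMap R p.ResidueField b * x = algebraMap R p.ResidueField a := by
  obtain ⟨s, hs, h⟩ := exists_common_denom p {x}
  obtain ⟨a, ha⟩ := h x (Finset.mem_singleton_self x)
  exact ⟨a, s, hs, ha⟩

theorem exists_etale_generating (L : Type u) [Field L] [Algebra p.ResidueField L] [Algebra R L]
    [IsScalarTower R p.ResidueField L] [Module.Finite p.ResidueField L]
    [Algebra.IsSeparable p.ResidueField L] :
    ∃ (P : StandardEtalePair R) (ψ : P.Ring →ₐ[R] L), Subfield.closure (Set.range ψ) = ⊤ := by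
  classical
  obtain ⟨α, hα⟩ := Field.exists_primitive_element p.ResidueField L
  set κ := p.ResidueField with hκ
  have hαint : IsIntegral κ α := Algebra.IsIntegral.isIntegral α
  set m := minpoly κ α with hm
  have hmmonic : m.Monic := minpoly.monic hαint
  have hmsep : m.Separable := Algebra.IsSeparable.isSeparable κ α
  -- denominators
  obtain ⟨s, hs, hden⟩ := exists_common_denom p (m.support.image m.coeff)
  set σ : κ := algebraMap R κ s with hσ
  have hσ0 : σ ≠ 0 := by
    rw [hσ, Ne, Ideal.algebraMap_residueField_eq_zero]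
    exact hs
  -- the scaled polynomial
  set ms := scaleRoots m σ with hms
  have hmsmonic : ms.Monic := (monic_scaleRoots_iff σ).mpr hmmonic
  have hlift : ms ∈ lifts (algebraMap R κ) := by
    rw [lifts_iff_coeff_lifts]
    intro i
    rw [hms, coeff_scaleRoots]
    by_cases hi : i ∈ m.support
    · rcases lt_or_ge i m.natDegree with hlt | hge
      · obtain ⟨a, ha⟩ := hden (m.coeff i) (Finset.mem_image_of_mem _ hi)
        obtain ⟨k, hk⟩ : ∃ k, m.natDegree - i = k + 1 := ⟨m.natDegree - i - 1, by omega⟩
        refine ⟨a * s ^ k, ?_⟩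
        rw [map_mul, map_pow, ← ha, ← hσ, hk, pow_succ]
        ring
      · have : i = m.natDegree := le_antisymm (le_natDegree_of_mem_supp i hi) hge
        subst this
        refine ⟨1, ?_⟩
        simp [hmmonic.coeff_natDegree]
    · rw [notMem_support_iff] at hi
      exact ⟨0, by simp [hi]⟩
  obtain ⟨F, hFmap, -, hFmonic⟩ := lifts_and_natDegree_eq_and_monic hlift hmsmonic
  -- the root
  set β : L := algebraMap κ L σ * α with hβ
  have hroot_ms : aeval β ms = 0 := scaleRoots_aeval_eq_zero (minpoly.aeval κ α)
  have hrootF : aeval β F = 0 := by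
    rw [← aeval_map_algebraMap κ, hFmap]
    exact hroot_ms
  -- derivative nonzero
  have hder : aeval β (derivative F) ≠ 0 := by
    rw [← aeval_map_algebraMap κ, ← derivative_map, hFmap]
    set q := m.map (algebraMap κ L) with hq
    have hqs : ms.map (algebraMap κ L) = scaleRoots q (algebraMap κ L σ) := by
      rw [hms, hq]
      exact map_scaleRoots m σ (algebraMap κ L) (by rw [hmmonic.leadingCoeff, map_one]; exact one_ne_zero)
    have hqsep : q.Separable := hmsep.map
    have hq0 : q ≠ 0 := hqsep.ne_zero
    have hmult : rootMultiplicity β (scaleRoots q (algebraMap κ L σ)) = rootMultiplicity α q := by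
      rw [hβ]
      apply rootMultiplicity_scaleRoots
      exact (IsUnit.mk0 _ ((_root_.map_ne_zero _).mpr hσ0)).isRegular.left
    have hle : rootMultiplicity α q ≤ 1 := rootMultiplicity_le_one_of_separable hqsep α
    have hqs0 : scaleRoots q (algebraMap κ L σ) ≠ 0 := scaleRoots_ne_zero hq0 _
    have hnot : ¬ (1 < rootMultiplicity β (scaleRoots q (algebraMap κ L σ))) := by omega
    rw [one_lt_rootMultiplicity_iff_isRoot hqs0] at hnot
    have hisroot : (scaleRoots q (algebraMap κ L σ)).IsRoot β := by
      rw [← hqs, IsRoot.def, eval_map_algebraMap]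
      exact hroot_ms
    intro hzero
    apply hnot
    refine ⟨hisroot, ?_⟩
    rw [← hqs, derivative_map, IsRoot.def, eval_map_algebraMap]
    exact hzero
  -- the standard etale pair
  let P : StandardEtalePair R := ⟨F, hFmonic, derivative F, ⟨1, 0, 1, by simp⟩⟩
  have hmap : P.HasMap β := ⟨hrootF, (isUnit_iff_ne_zero.mpr hder)⟩
  refine ⟨P, P.lift β hmap, ?_⟩
  set ψ := P.lift β hmap with hψ
  set K := Subfield.closure (Set.range ψ) with hK
  have hβK : β ∈ K := Subfield.subset_closure ⟨P.X, P.lift_X β hmap⟩
  have hRK : ∀ r : R, algebraMap R L r ∈ K := fun r =>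
    Subfield.subset_closure ⟨algebraMap R P.Ring r, ψ.commutes r⟩
  have hκK : ∀ x : κ, algebraMap κ L x ∈ K := by
    intro x
    obtain ⟨a, b, hb, hab⟩ := exists_frac p x
    have hb0 : algebraMap R L b ≠ 0 := by
      rw [IsScalarTower.algebraMap_apply R κ L]
      refine (_root_.map_ne_zero _).mpr ?_
      rwa [Ne, Ideal.algebraMap_residueField_eq_zero]
    have : algebraMap κ L x = (algebraMap R L b)⁻¹ * algebraMap R L a := by
      rw [IsScalarTower.algebraMap_apply R κ L a, ← hab, map_mul,
        ← IsScalarTower.algebraMap_apply R κ L, ← mul_assoc, inv_mul_cancel₀ hb0, one_mul]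
    rw [this]
    exact K.mul_mem (K.inv_mem (hRK b)) (hRK a)
  have hαK : α ∈ K := by
    have : α = (algebraMap κ L σ)⁻¹ * β := by
      rw [hβ, ← mul_assoc, inv_mul_cancel₀ ((_root_.map_ne_zero _).mpr hσ0), one_mul]
    rw [this]
    exact K.mul_mem (K.inv_mem (hκK σ)) hβK
  let K' : IntermediateField κ L := K.toIntermediateField hκK
  have hle : IntermediateField.adjoin κ {α} ≤ K' := IntermediateField.adjoin_simple_le_iff.mpr hαK
  rw [hα] at hle
  rw [eq_top_iff]
  intro x _
  exact hle IntermediateField.mem_top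

end Groth.Agent.Helper7.EtaleRes

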