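import Mathlib

/-!
# Principal open neighbourhoods of a closed set `V(J)` given by `g ≡ 1 mod J`
-/

namespace Groth.Agent.Helper7.AwayNbhd

open PrimeSpectrum

/-- An open set containing `V(J)` contains a basic open `D(g)` with `g ≡ 1 mod J`. -/
theorem exists_basicOpen_subset {R : Type*} [CommRing R] (J : Ideal R)
    (U : Set (PrimeSpectrum R)) (hU : IsOpen U) (h : zeroLocus (J : Set R) ⊆ U) :
    ∃ g : R, 1 - g ∈ J ∧ (↑(basicOpen g) : Set (PrimeSpectrum R)) ⊆ U := by
  obtain ⟨K, hK⟩ := (isClosed_iff_zeroLocus_ideal _).mp hU.isClosed_compl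
  have h1 : J ⊔ K = ⊤ := by
    rw [← zeroLocus_empty_iff_eq_top, zeroLocus_sup, ← hK]
    rw [Set.eq_empty_iff_forall_notMem]
    rintro x ⟨hx1, hx2⟩
    exact hx2 (h hx1)
  obtain ⟨x, hx, g, hg, hxg⟩ := Submodule.mem_sup.mp ((Ideal.eq_top_iff_one _).mp h1)
  refine ⟨g, ?_, ?_⟩
  · have : 1 - g = x := by rw [← hxg]; ring
    rw [this]; exact hx
  · intro p hp
    by_contra hpU
    have : p ∈ zeroLocus (K : Set R) := by rw [← hK]; exact hpU
    exact hp (this hg)

/-- If `g ≡ 1 mod J` then `R/J → R_g/J R_g` is bijective. -/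
theorem bijective_quotientMap_away {R : Type*} [CommRing R] (J : Ideal R) (g : R)
    (hg : 1 - g ∈ J) (R' : Type*) [CommRing R'] [Algebra R R'] [IsLocalization.Away g R'] :
    Function.Bijective (Ideal.quotientMap (J.map (algebraMap R R')) (algebraMap R R')
      Ideal.le_comap_map) := by
  have hpow : ∀ n : ℕ, 1 - g ^ n ∈ J := by
    intro n
    induction n with
    | zero => simp
    | succ n ih =>
      have : 1 - g ^ (n + 1) = (1 - g ^ n) + g ^ n * (1 - g) := by ring
      rw [this]
      exact J.add_mem ih (J.mul_mem_left _ hg)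
  constructor
  · rw [injective_iff_map_eq_zero]
    intro x hx
    obtain ⟨r, rfl⟩ := Ideal.Quotient.mk_surjective x
    rw [Ideal.quotientMap_mk, Ideal.Quotient.eq_zero_iff_mem] at hx
    rw [IsLocalization.mem_map_algebraMap_iff (Submonoid.powers g)] at hx
    obtain ⟨⟨i, ⟨_, n, rfl⟩⟩, hi⟩ := hx
    rw [← map_mul, IsLocalization.eq_iff_exists (Submonoid.powers g)] at hi
    obtain ⟨⟨_, m, rfl⟩, hm⟩ := hi
    rw [Ideal.Quotient.eq_zero_iff_mem]
    have h1 : g ^ (m + n) * r ∈ J := by
      have : g ^ (m + n) * r = g ^ m * (r * g ^ n) := by ring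
      rw [this]
      simp only at hm
      rw [hm]
      exact J.mul_mem_left _ i.2
    have : r = (1 - g ^ (m + n)) * r + g ^ (m + n) * r := by ring
    rw [this]
    exact J.add_mem (J.mul_mem_right _ (hpow _)) h1
  · intro y
    obtain ⟨y, rfl⟩ := Ideal.Quotient.mk_surjective y
    obtain ⟨r, ⟨_, n, rfl⟩, rfl⟩ := IsLocalization.exists_mk'_eq (Submonoid.powers g) y
    refine ⟨Ideal.Quotient.mk _ r, ?_⟩
    rw [Ideal.quotientMap_mk, Ideal.Quotient.eq]
    set s : Submonoid.powers g := ⟨g ^ n, n, rfl⟩ with hs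
    have h2 : algebraMap R R' r - IsLocalization.mk' R' r s
        = algebraMap R R' (-(1 - g ^ n)) * IsLocalization.mk' R' r s := by
      have h3 : algebraMap R R' (g ^ n) * IsLocalization.mk' R' r s
          = algebraMap R R' r := by
        exact IsLocalization.mk'_spec' R' r s
      rw [map_neg, map_sub, map_one, neg_sub, sub_mul, one_mul, h3]
    rw [h2]
    exact Ideal.mul_mem_right _ _ (Ideal.mem_map_of_mem _ (J.neg_mem (hpow n)))

end Groth.Agent.Helper7.AwayNbhd
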