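import Mathlib

set_option autoImplicit false

open IsLocalRing

namespace Groth.Agent.Helper7.PowerSeriesEval

/-- evaluation of power series at elements of the maximal ideal of a complete local ring -/
theorem exists_algHom (k R : Type*) [Field k] [CommRing R] [IsLocalRing R] [Algebra k R]
    [IsAdicComplete (maximalIdeal R) R] (d : ℕ) (b : Fin d → R) (hb : ∀ i, b i ∈ maximalIdeal R) :
    ∃ ψ : MvPowerSeries (Fin d) k →ₐ[k] R, ∀ i, ψ (MvPowerSeries.X i) = b i := by
  let _ : WithIdeal R := ⟨maximalIdeal R⟩
  let _ : TopologicalSpace k := ⊥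
  have : DiscreteTopology k := ⟨rfl⟩
  let _ : UniformSpace k := IsTopologicalAddGroup.rightUniformSpace k
  have : IsUniformAddGroup k := isUniformAddGroup_of_addCommGroup
  have hc : CompleteSpace R ∧ T2Space R :=
    (IsAdic.isAdicComplete_iff (I := maximalIdeal R) rfl).mp inferInstance
  obtain ⟨h1, h2⟩ := hc
  have : ContinuousSMul k R := DiscreteTopology.instContinuousSMul k R
  have hev : MvPowerSeries.HasEval b :=
    ⟨fun i => WithIdeal.isTopologicallyNilpotent_of_mem (hb i), by
      rw [Filter.cofinite_eq_bot]; exact Filter.tendsto_bot⟩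
  refine ⟨MvPowerSeries.aeval hev, fun i => ?_⟩
  rw [MvPowerSeries.coe_aeval, MvPowerSeries.eval₂_X]

end Groth.Agent.Helper7.PowerSeriesEval
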