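import Mathlib
import Groth.Agent.Lib.Helper7.CAlg.AwayNbhd

/-!
# If `A → B` is étale along `V(J)` then `A → B_g` is étale for some `g ≡ 1 mod J`
-/

namespace Groth.Agent.Helper7.AwayNbhd

universe u

open PrimeSpectrum

/-- Double localisation: `(B_g)_h` is finitely presented over `A` if `B_h` is. -/
theorem finitePresentation_away_away {A B : Type u} [CommRing A] [CommRing B] [Algebra A B]
    (g h : B) [Algebra.FinitePresentation A (Localization.Away h)] :
    Algebra.FinitePresentation A
      (Localization.Away (algebraMap B (Localization.Away g) h)) := by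
  let T := Localization.Away (algebraMap B (Localization.Away g) h)
  let T' := Localization.Away (algebraMap B (Localization.Away h) g)
  have i1 : IsLocalization.Away (g * h) T := inferInstance
  have i2 : IsLocalization.Away (g * h) T' := inferInstance
  let e : T' ≃ₐ[B] T := IsLocalization.algEquiv (Submonoid.powers (g * h)) T' T
  have hfp1 : Algebra.FinitePresentation (Localization.Away h) T' :=
    IsLocalization.Away.finitePresentation (algebraMap B (Localization.Away h) g)
  have hfp2 : Algebra.FinitePresentation A T' :=
    Algebra.FinitePresentation.trans A (Localization.Away h) T'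
  exact Algebra.FinitePresentation.equiv (e.restrictScalars A)

theorem exists_etale_away {A B : Type u} [CommRing A] [CommRing B] [Algebra A B] (J : Ideal B)
    (h : ∀ (q : Ideal B) [q.IsPrime], J ≤ q →
      ∃ h : B, h ∉ q ∧ Algebra.Etale A (Localization.Away h)) :
    ∃ g : B, 1 - g ∈ J ∧ Algebra.Etale A (Localization.Away g) := by
  set U : Set (PrimeSpectrum B) :=
    ⋃ (h : B) (_ : Algebra.Etale A (Localization.Away h)), (basicOpen h : Set (PrimeSpectrum B))
    with hU
  have hUo : IsOpen U := isOpen_iUnion fun h => isOpen_iUnion fun _ => (basicOpen h).isOpen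
  have hJU : zeroLocus (J : Set B) ⊆ U := by
    intro q hq
    obtain ⟨h', hh', hEt⟩ := h q.asIdeal hq
    exact Set.mem_iUnion₂.mpr ⟨h', hEt, hh'⟩
  have hUloc : U ⊆ Algebra.etaleLocus A B := by
    intro q hq
    obtain ⟨h', hEt, hh'⟩ := Set.mem_iUnion₂.mp hq
    have hsub : (basicOpen h' : Set (PrimeSpectrum B)) ⊆ Algebra.etaleLocus A B :=
      Algebra.basicOpen_subset_etaleLocus_iff.mpr inferInstance
    exact hsub hh'
  obtain ⟨g, hg, hgU⟩ := exists_basicOpen_subset J U hUo hJU
  refine ⟨g, hg, ?_⟩
  have hfe : Algebra.FormallyEtale A (Localization.Away g) :=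
    Algebra.basicOpen_subset_etaleLocus_iff.mp (hgU.trans hUloc)
  have hfp : Algebra.FinitePresentation A (Localization.Away g) := by
    set s : Set (Localization.Away g) :=
      {x | ∃ h' : B, Algebra.Etale A (Localization.Away h') ∧
        x = algebraMap B (Localization.Away g) h'} with hs
    apply Algebra.FinitePresentation.of_span_eq_top_target s
    · by_contra hne
      obtain ⟨M, hM, hle⟩ := Ideal.exists_le_maximal _ hne
      have hMp : M.IsPrime := hM.isPrime
      let q : Ideal B := M.comap (algebraMap B (Localization.Away g))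
      have hqp : q.IsPrime := Ideal.comap_isPrime _ _
      have hgq : g ∉ q := by
        intro hgq
        have h1 : algebraMap B (Localization.Away g) g ∈ M := hgq
        exact hM.ne_top (Ideal.eq_top_of_isUnit_mem _ h1
          (IsLocalization.Away.algebraMap_isUnit g))
      have hqU : (⟨q, hqp⟩ : PrimeSpectrum B) ∈ U := hgU hgq
      obtain ⟨h', hEt, hh'⟩ := Set.mem_iUnion₂.mp hqU
      apply hh'
      show algebraMap B (Localization.Away g) h' ∈ M
      exact hle (Ideal.subset_span ⟨h', hEt, rfl⟩)
    · rintro _ ⟨h', hEt, rfl⟩
      exact finitePresentation_away_away g h'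
  exact ⟨hfe, hfp⟩

end Groth.Agent.Helper7.AwayNbhd
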