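import Mathlib
import Groth.Agent.Lib.Helper7.CAlg.EtaleSection

/-!
# Lifting units and complete orthogonal idempotents to étale neighbourhoods of `V(I)`
-/

namespace Groth.Agent.Helper7.EtaleSection

universe u

/-- An étale `A`-algebra `E` with a section `E → A/I` yields an étale neighbourhood. -/
theorem exists_etale_nbhd_of_section {A E : Type u} [CommRing A] [CommRing E] [Algebra A E]
    [Algebra.Etale A E] (I : Ideal A) (s : E →ₐ[A] A ⧸ I) :
    ∃ (A' : Type u) (_ : CommRing A') (_ : Algebra A A'), Algebra.Etale A A' ∧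
      Function.Bijective (algebraMap (A ⧸ I) (A' ⧸ I.map (algebraMap A A'))) ∧
      ∃ φ : E →+* A', ∀ x : E, Ideal.Quotient.mk (I.map (algebraMap A A')) (φ x) =
        algebraMap (A ⧸ I) (A' ⧸ I.map (algebraMap A A')) (s x) := by
  obtain ⟨g₀, hbij, hcompat⟩ := exists_away I s
  have hEt : Algebra.Etale E (Localization.Away g₀) := Algebra.Etale.of_isLocalizationAway g₀
  have hEt' : Algebra.Etale A (Localization.Away g₀) := Algebra.Etale.comp A E _
  exact ⟨Localization.Away g₀, inferInstance, inferInstance, hEt', hbij,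
    algebraMap E (Localization.Away g₀), fun x => (hcompat x).symm⟩

/-- The algebra map `Aⁿ → T` attached to a complete system of orthogonal idempotents of `T`. -/
noncomputable def coiHom {A T : Type*} [CommRing A] [CommRing T] [Algebra A T] {n : ℕ}
    (e : Fin n → T) (he : CompleteOrthogonalIdempotents e) : (Fin n → A) →ₐ[A] T where
  toFun x := ∑ j, algebraMap A T (x j) * e j
  map_one' := by simp [he.complete]
  map_mul' x y := by
    classical
    rw [Finset.sum_mul_sum]
    apply Finset.sum_congr rfl
    intro i _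
    rw [Finset.sum_eq_single i]
    · have := (he.idem i).eq
      simp only [Pi.mul_apply, map_mul]
      calc algebraMap A T (x i) * algebraMap A T (y i) * e i
          = algebraMap A T (x i) * algebraMap A T (y i) * (e i * e i) := by rw [this]
        _ = algebraMap A T (x i) * e i * (algebraMap A T (y i) * e i) := by ring
    · intro j _ hji
      have := he.ortho (Ne.symm hji)
      simp only at this
      calc algebraMap A T (x i) * e i * (algebraMap A T (y j) * e j)
          = algebraMap A T (x i) * algebraMap A T (y j) * (e i * e j) := by ring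
        _ = 0 := by rw [this, mul_zero]
    · intro h
      exact absurd (Finset.mem_univ i) h
  map_zero' := by simp
  map_add' x y := by simp [add_mul, Finset.sum_add_distrib]
  commutes' a := by
    simp only [Pi.algebraMap_apply, ← Finset.mul_sum, he.complete, mul_one]
    rfl

theorem coiHom_single {A T : Type*} [CommRing A] [CommRing T] [Algebra A T] {n : ℕ}
    (e : Fin n → T) (he : CompleteOrthogonalIdempotents e) (j : Fin n) :
    coiHom (A := A) e he (Pi.single j 1) = e j := by
  classical
  show ∑ k, algebraMap A T ((Pi.single j 1 : Fin n → A) k) * e k = e j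
  rw [Finset.sum_eq_single j]
  · simp
  · intro k _ hkj
    simp [hkj]
  · intro h
    exact absurd (Finset.mem_univ j) h

theorem exists_etale_lift_coi {A : Type u} [CommRing A] (I : Ideal A) (n : ℕ)
    (e : Fin n → A ⧸ I) (he : CompleteOrthogonalIdempotents e) :
    ∃ (A' : Type u) (_ : CommRing A') (_ : Algebra A A'), Algebra.Etale A A' ∧
      Function.Bijective (algebraMap (A ⧸ I) (A' ⧸ I.map (algebraMap A A'))) ∧
      ∃ e' : Fin n → A', CompleteOrthogonalIdempotents e' ∧
        ∀ j, Ideal.Quotient.mk (I.map (algebraMap A A')) (e' j) =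
          algebraMap (A ⧸ I) (A' ⧸ I.map (algebraMap A A')) (e j) := by
  classical
  obtain ⟨A', _, _, hEt, hbij, φ, hφ⟩ :=
    exists_etale_nbhd_of_section I (coiHom (A := A) e he)
  refine ⟨A', inferInstance, inferInstance, hEt, hbij,
    φ ∘ (fun j : Fin n => (Pi.single j 1 : Fin n → A)), ?_, ?_⟩
  · exact (CompleteOrthogonalIdempotents.single (fun _ : Fin n => A)).map φ
  · intro j
    rw [Function.comp_apply, hφ, coiHom_single]

theorem exists_etale_lift_unit {A : Type u} [CommRing A] (I : Ideal A) (u : (A ⧸ I)ˣ) :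
    ∃ (A' : Type u) (_ : CommRing A') (_ : Algebra A A'), Algebra.Etale A A' ∧
      Function.Bijective (algebraMap (A ⧸ I) (A' ⧸ I.map (algebraMap A A'))) ∧
      ∃ u' : A'ˣ, Ideal.Quotient.mk (I.map (algebraMap A A')) (u' : A') =
        algebraMap (A ⧸ I) (A' ⧸ I.map (algebraMap A A')) (u : A ⧸ I) := by
  obtain ⟨ũ, hũ⟩ := Ideal.Quotient.mk_surjective (u : A ⧸ I)
  have hEt0 : Algebra.Etale A (Localization.Away ũ) := Algebra.Etale.of_isLocalizationAway ũ
  have hunit : ∀ y : Submonoid.powers ũ, IsUnit (Ideal.Quotient.mkₐ A I (y : A)) := by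
    rintro ⟨_, n, rfl⟩
    rw [map_pow, Ideal.Quotient.mkₐ_eq_mk, hũ]
    exact (u.isUnit).pow n
  let s : Localization.Away ũ →ₐ[A] A ⧸ I :=
    IsLocalization.liftAlgHom (M := Submonoid.powers ũ) (f := Ideal.Quotient.mkₐ A I) hunit
  have hs : ∀ x : A, s (algebraMap A (Localization.Away ũ) x) = Ideal.Quotient.mk I x :=
    fun x => IsLocalization.lift_eq _ x
  obtain ⟨A', _, _, hEt, hbij, φ, hφ⟩ := exists_etale_nbhd_of_section I s
  have hu' : IsUnit (φ (algebraMap A (Localization.Away ũ) ũ)) :=
    (IsLocalization.Away.algebraMap_isUnit ũ).map φ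
  refine ⟨A', inferInstance, inferInstance, hEt, hbij, hu'.unit, ?_⟩
  rw [IsUnit.unit_spec, hφ, hs, hũ]

end Groth.Agent.Helper7.EtaleSection
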