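import Mathlib

/-! Étale neighbourhoods with trivial residue field extension (S9468). -/

open TensorProduct

universe u

namespace Groth.Agent.Helper7.EtaleNbhd

variable {R : Type u} [CommRing R] (p : Ideal R) [p.IsPrime]

/-- A ring map `S → κ(p)` over `R` has kernel a prime over `p` with trivial residue field
extension. -/
theorem ker_residueField_bijective {S : Type u} [CommRing S] [Algebra R S]
    (χ : S →+* p.ResidueField)
    (hχ : χ.comp (algebraMap R S) = algebraMap R p.ResidueField) :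
    ∃ (_ : (RingHom.ker χ).IsPrime) (hq : p = (RingHom.ker χ).comap (algebraMap R S)),
      Function.Bijective (Ideal.ResidueField.map p (RingHom.ker χ) (algebraMap R S) hq) := by
  have hprime : (RingHom.ker χ).IsPrime := RingHom.ker_isPrime χ
  have hq : p = (RingHom.ker χ).comap (algebraMap R S) := by
    rw [RingHom.comap_ker, hχ, Ideal.ker_algebraMap_residueField]
  refine ⟨hprime, hq, ?_⟩
  let χbar : (RingHom.ker χ).ResidueField →+* p.ResidueField :=
    Ideal.ResidueField.lift (RingHom.ker χ) χ le_rfl (by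
      intro x hx
      rw [Submonoid.mem_comap, IsUnit.mem_submonoid_iff, isUnit_iff_ne_zero]
      exact hx)
  have hcomp : χbar.comp (Ideal.ResidueField.map p (RingHom.ker χ) (algebraMap R S) hq) =
      RingHom.id _ := by
    apply Ideal.ResidueField.ringHom_ext
    ext r
    simp only [RingHom.coe_comp, Function.comp_apply, RingHom.id_apply,
      Ideal.ResidueField.map_algebraMap]
    rw [Ideal.ResidueField.lift_algebraMap]
    exact congrArg (fun f => f r) hχ
  have hsurj : Function.Surjective χbar := by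
    intro y
    exact ⟨Ideal.ResidueField.map p (RingHom.ker χ) (algebraMap R S) hq y,
      congrArg (fun f => f y) hcomp⟩
  refine ⟨RingHom.injective _, ?_⟩
  intro z
  obtain ⟨y, hy⟩ : ∃ y, y = χbar z := ⟨_, rfl⟩
  refine ⟨y, ?_⟩
  apply χbar.injective
  rw [← hy]
  exact congrArg (fun f => f y) hcomp

/-- the map `S → κ(p)` attached to a prime with trivial residue field extension. -/
noncomputable def toResidue {S : Type u} [CommRing S] [Algebra R S] (q : Ideal S) [q.IsPrime]
    (hq : p = q.comap (algebraMap R S))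
    (hqκ : Function.Bijective (Ideal.ResidueField.map p q (algebraMap R S) hq)) :
    S →ₐ[R] p.ResidueField where
  __ := ((RingEquiv.ofBijective _ hqκ).symm.toRingHom).comp (algebraMap S q.ResidueField)
  commutes' r := by
    simp only [RingHom.toMonoidHom_eq_coe, RingEquiv.toRingHom_eq_coe, OneHom.toFun_eq_coe,
      MonoidHom.toOneHom_coe, MonoidHom.coe_coe, RingHom.coe_comp, RingHom.coe_coe,
      Function.comp_apply]
    rw [RingEquiv.symm_apply_eq, RingEquiv.ofBijective_apply, Ideal.ResidueField.map_algebraMap]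

theorem ker_toResidue {S : Type u} [CommRing S] [Algebra R S] (q : Ideal S) [q.IsPrime]
    (hq : p = q.comap (algebraMap R S))
    (hqκ : Function.Bijective (Ideal.ResidueField.map p q (algebraMap R S) hq)) :
    RingHom.ker (toResidue p q hq hqκ).toRingHom = q := by
  ext x
  rw [RingHom.mem_ker]
  change (RingEquiv.ofBijective _ hqκ).symm (algebraMap S q.ResidueField x) = 0 ↔ _
  rw [RingEquiv.map_eq_zero_iff, Ideal.algebraMap_residueField_eq_zero]

theorem exists_dominating (S₁ : Type u) [CommRing S₁] [Algebra R S₁] [Algebra.Etale R S₁]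
    (q₁ : Ideal S₁) [q₁.IsPrime] (hq₁ : p = q₁.comap (algebraMap R S₁))
    (hq₁κ : Function.Bijective (Ideal.ResidueField.map p q₁ (algebraMap R S₁) hq₁))
    (S₂ : Type u) [CommRing S₂] [Algebra R S₂] [Algebra.Etale R S₂] (q₂ : Ideal S₂) [q₂.IsPrime]
    (hq₂ : p = q₂.comap (algebraMap R S₂))
    (hq₂κ : Function.Bijective (Ideal.ResidueField.map p q₂ (algebraMap R S₂) hq₂)) :
    ∃ (S₃ : Type u) (_ : CommRing S₃) (_ : Algebra R S₃) (_ : Algebra.Etale R S₃) (q₃ : Ideal S₃)
      (_ : q₃.IsPrime) (hq₃ : p = q₃.comap (algebraMap R S₃)),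
      Function.Bijective (Ideal.ResidueField.map p q₃ (algebraMap R S₃) hq₃) ∧
        ∃ (φ₁ : S₁ →ₐ[R] S₃) (φ₂ : S₂ →ₐ[R] S₃),
          q₃.comap φ₁.toRingHom = q₁ ∧ q₃.comap φ₂.toRingHom = q₂ := by
  let e₁ := toResidue p q₁ hq₁ hq₁κ
  let e₂ := toResidue p q₂ hq₂ hq₂κ
  let χ : S₁ ⊗[R] S₂ →ₐ[R] p.ResidueField := Algebra.TensorProduct.productMap e₁ e₂
  have hχ : χ.toRingHom.comp (algebraMap R (S₁ ⊗[R] S₂)) = algebraMap R p.ResidueField :=
    χ.comp_algebraMap
  obtain ⟨hprime, hq₃, hbij⟩ := ker_residueField_bijective p χ.toRingHom hχ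
  have hetale : Algebra.Etale R (S₁ ⊗[R] S₂) := Algebra.Etale.comp R S₁ (S₁ ⊗[R] S₂)
  refine ⟨S₁ ⊗[R] S₂, inferInstance, inferInstance, hetale, RingHom.ker χ.toRingHom, hprime, hq₃,
    hbij, Algebra.TensorProduct.includeLeft, Algebra.TensorProduct.includeRight, ?_, ?_⟩
  · rw [RingHom.comap_ker, ← ker_toResidue p q₁ hq₁ hq₁κ]
    congr 1
    ext x
    simp [χ, e₁]
  · rw [RingHom.comap_ker, ← ker_toResidue p q₂ hq₂ hq₂κ]
    congr 1
    ext x
    simp [χ, e₂]

end Groth.Agent.Helper7.EtaleNbhd
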