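import Groth.Agent.Lib.Helper7.CAlg.EtaleNbhd

/-! Étale neighbourhoods with trivial residue field extension: coequalisers (S9469). -/

open TensorProduct

universe u

namespace Groth.Agent.Helper7.EtaleNbhd

variable {R : Type u} [CommRing R] (p : Ideal R) [p.IsPrime]

/-- uniqueness of the map to the residue field -/
theorem eq_toResidue {S : Type u} [CommRing S] [Algebra R S] (q : Ideal S) [q.IsPrime]
    (hq : p = q.comap (algebraMap R S))
    (hqκ : Function.Bijective (Ideal.ResidueField.map p q (algebraMap R S) hq))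
    (g : S →ₐ[R] p.ResidueField) (hg : RingHom.ker g.toRingHom = q) :
    g = toResidue p q hq hqκ := by
  let gbar : q.ResidueField →+* p.ResidueField :=
    Ideal.ResidueField.lift q g.toRingHom hg.ge (by
      intro x hx
      rw [Submonoid.mem_comap, IsUnit.mem_submonoid_iff, isUnit_iff_ne_zero]
      intro h0
      apply hx
      rw [← hg]
      exact h0)
  have hcomp : gbar.comp (Ideal.ResidueField.map p q (algebraMap R S) hq) = RingHom.id _ := by
    apply Ideal.ResidueField.ringHom_ext
    ext r
    simp only [RingHom.coe_comp, Function.comp_apply, RingHom.id_apply,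
      Ideal.ResidueField.map_algebraMap]
    rw [Ideal.ResidueField.lift_algebraMap]
    exact g.commutes r
  ext x
  change g x = (RingEquiv.ofBijective _ hqκ).symm (algebraMap S q.ResidueField x)
  rw [eq_comm, RingEquiv.symm_apply_eq, RingEquiv.ofBijective_apply]
  have h1 : gbar (algebraMap S q.ResidueField x) = g x := Ideal.ResidueField.lift_algebraMap _ _ _ _ x
  apply gbar.injective
  rw [h1]
  exact (congrArg (fun f => f (g x)) hcomp).symm

theorem exists_coequalizing (S₁ : Type u) [CommRing S₁] [Algebra R S₁] [Algebra.Etale R S₁]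
    (q₁ : Ideal S₁) [q₁.IsPrime] (hq₁ : p = q₁.comap (algebraMap R S₁))
    (hq₁κ : Function.Bijective (Ideal.ResidueField.map p q₁ (algebraMap R S₁) hq₁))
    (S₂ : Type u) [CommRing S₂] [Algebra R S₂] [Algebra.Etale R S₂] (q₂ : Ideal S₂) [q₂.IsPrime]
    (hq₂ : p = q₂.comap (algebraMap R S₂))
    (hq₂κ : Function.Bijective (Ideal.ResidueField.map p q₂ (algebraMap R S₂) hq₂))
    (φ ψ : S₁ →ₐ[R] S₂) (hφ : q₂.comap φ.toRingHom = q₁) (hψ : q₂.comap ψ.toRingHom = q₁) :
    ∃ (S₃ : Type u) (_ : CommRing S₃) (_ : Algebra R S₃) (_ : Algebra.Etale R S₃) (q₃ : Ideal S₃)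
      (_ : q₃.IsPrime) (hq₃ : p = q₃.comap (algebraMap R S₃)),
      Function.Bijective (Ideal.ResidueField.map p q₃ (algebraMap R S₃) hq₃) ∧
        ∃ χ : S₂ →ₐ[R] S₃, q₃.comap χ.toRingHom = q₂ ∧ χ.comp φ = χ.comp ψ := by
  let t : S₁ ⊗[R] S₁ := Algebra.FormallyUnramified.elem R S₁
  let m : S₁ ⊗[R] S₁ →ₐ[R] S₂ := Algebra.TensorProduct.productMap φ ψ
  let e' : S₂ := m t
  have hann : ∀ s : S₁, (ψ s - φ s) * e' = 0 := by
    intro s
    have h := congrArg m (Algebra.FormallyUnramified.one_tmul_sub_tmul_one_mul_elem (R := R) s)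
    simpa [m] using h
  let e₁ := toResidue p q₁ hq₁ hq₁κ
  let e₂ := toResidue p q₂ hq₂ hq₂κ
  have h1 : e₂.comp φ = e₁ := by
    apply eq_toResidue p q₁ hq₁ hq₁κ
    rw [← hφ, ← ker_toResidue p q₂ hq₂ hq₂κ, RingHom.comap_ker]
    rfl
  have h2 : e₂.comp ψ = e₁ := by
    apply eq_toResidue p q₁ hq₁ hq₁κ
    rw [← hψ, ← ker_toResidue p q₂ hq₂ hq₂κ, RingHom.comap_ker]
    rfl
  have he' : e₂ e' = 1 := by
    have hm : e₂.comp m = e₁.comp (Algebra.TensorProduct.lmul' R) := by
      apply Algebra.TensorProduct.ext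
      · ext x
        have := congrArg (fun f => f x) h1
        simpa [m] using this
      · ext x
        have := congrArg (fun f => f x) h2
        simpa [m] using this
    have := congrArg (fun f => f t) hm
    simp only [AlgHom.comp_apply] at this
    change e₂ (m t) = 1
    rw [this]
    change e₁ (Algebra.TensorProduct.lmul' R (Algebra.FormallyUnramified.elem R S₁)) = 1
    rw [Algebra.FormallyUnramified.lmul_elem, map_one]
  have hetale : Algebra.Etale R (Localization.Away e') :=
    Algebra.Etale.comp R S₂ (Localization.Away e')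
  let χ : S₂ →ₐ[R] Localization.Away e' := IsScalarTower.toAlgHom R S₂ (Localization.Away e')
  have hχeq : χ.comp φ = χ.comp ψ := by
    ext s
    change algebraMap S₂ (Localization.Away e') (φ s) = algebraMap S₂ (Localization.Away e') (ψ s)
    rw [IsLocalization.eq_iff_exists (Submonoid.powers e')]
    refine ⟨⟨e', Submonoid.mem_powers _⟩, ?_⟩
    have := hann s
    rw [sub_mul, sub_eq_zero] at this
    simp only
    rw [mul_comm e', mul_comm e', this]
  let χ₃ : Localization.Away e' →+* p.ResidueField :=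
    IsLocalization.Away.lift e' (g := e₂.toRingHom) (by
      change IsUnit (e₂ e')
      rw [he']
      exact isUnit_one)
  have hχ₃ : χ₃.comp (algebraMap S₂ (Localization.Away e')) = e₂.toRingHom :=
    IsLocalization.Away.lift_comp _ _
  have hχ₃R : χ₃.comp (algebraMap R (Localization.Away e')) = algebraMap R p.ResidueField := by
    rw [IsScalarTower.algebraMap_eq R S₂ (Localization.Away e'), ← RingHom.comp_assoc, hχ₃]
    exact e₂.comp_algebraMap
  obtain ⟨hprime, hq₃, hbij⟩ := ker_residueField_bijective p χ₃ hχ₃R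
  refine ⟨Localization.Away e', inferInstance, inferInstance, hetale, RingHom.ker χ₃, hprime, hq₃,
    hbij, χ, ?_, hχeq⟩
  rw [RingHom.comap_ker, ← ker_toResidue p q₂ hq₂ hq₂κ]
  congr 1

end Groth.Agent.Helper7.EtaleNbhd
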