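import Mathlib

/-! A flatness criterion for a quotient of a flat module. -/

namespace Groth.Agent.Helper7.FlatQuot

open TensorProduct

universe u v w

variable {R : Type u} [CommRing R]

/-- multiplication `I ⊗ F → F`. -/
noncomputable def mu (I : Ideal R) (F : Type v) [AddCommGroup F] [Module R F] : I ⊗[R] F →ₗ[R] F :=
  TensorProduct.lift ((LinearMap.lsmul R F).comp I.subtype)

@[simp] theorem mu_tmul (I : Ideal R) (F : Type v) [AddCommGroup F] [Module R F] (i : I) (f : F) :
    mu I F (i ⊗ₜ f) = (i : R) • f := by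
  simp [mu]

theorem mu_eq (I : Ideal R) (F : Type v) [AddCommGroup F] [Module R F] :
    mu I F = (TensorProduct.lid R F).toLinearMap ∘ₗ LinearMap.rTensor F I.subtype := by
  apply TensorProduct.ext'
  intro i f
  simp

theorem mu_injective (I : Ideal R) (F : Type v) [AddCommGroup F] [Module R F] [Module.Flat R F] :
    Function.Injective (mu I F) := by
  rw [mu_eq]
  exact (TensorProduct.lid R F).injective.comp
    (Module.Flat.rTensor_preserves_injective_linearMap I.subtype Subtype.val_injective)

theorem mu_mem (I : Ideal R) (F : Type v) [AddCommGroup F] [Module R F] (t : I ⊗[R] F) :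
    mu I F t ∈ (I • ⊤ : Submodule R F) := by
  induction t using TensorProduct.induction_on with
  | zero => simp
  | tmul i f => rw [mu_tmul]; exact Submodule.smul_mem_smul i.2 trivial
  | add x y hx hy => rw [map_add]; exact Submodule.add_mem _ hx hy

theorem mu_lTensor (I : Ideal R) {F : Type v} {M : Type w} [AddCommGroup F] [Module R F]
    [AddCommGroup M] [Module R M] (π : F →ₗ[R] M) (t : I ⊗[R] F) :
    mu I M (LinearMap.lTensor I π t) = π (mu I F t) := by
  induction t using TensorProduct.induction_on with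
  | zero => simp
  | tmul i f => simp
  | add x y hx hy => simp only [map_add, hx, hy]

theorem exists_of_mem_smul (I : Ideal R) {F : Type v} [AddCommGroup F] [Module R F]
    (N : Submodule R F) (f : F) (hf : f ∈ I • N) :
    ∃ s : I ⊗[R] N, mu I F (LinearMap.lTensor I N.subtype s) = f := by
  refine Submodule.smul_induction_on hf ?_ ?_
  · intro r hr n hn
    exact ⟨(⟨r, hr⟩ : I) ⊗ₜ (⟨n, hn⟩ : N), by simp⟩
  · rintro x y ⟨s₁, h₁⟩ ⟨s₂, h₂⟩
    exact ⟨s₁ + s₂, by simp only [map_add, h₁, h₂]⟩

theorem flat_of_surjective_of_inter_le {F : Type v} {M : Type w}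
    [AddCommGroup F] [Module R F] [AddCommGroup M] [Module R M] [Module.Flat R F]
    (π : F →ₗ[R] M) (hπ : Function.Surjective π)
    (h : ∀ (I : Ideal R) (f : F), f ∈ LinearMap.ker π → f ∈ (I • ⊤ : Submodule R F) →
      f ∈ I • LinearMap.ker π) :
    Module.Flat R M := by
  rw [Module.Flat.iff_rTensor_injective']
  intro I
  have hmu : Function.Injective (mu I M) := by
    rw [injective_iff_map_eq_zero]
    intro t ht
    obtain ⟨t', rfl⟩ := LinearMap.lTensor_surjective I hπ t
    rw [mu_lTensor] at ht
    have h1 : mu I F t' ∈ I • LinearMap.ker π := h I _ ht (mu_mem I F t')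
    obtain ⟨s, hs⟩ := exists_of_mem_smul I (LinearMap.ker π) _ h1
    have h2 : LinearMap.lTensor I (LinearMap.ker π).subtype s = t' := mu_injective I F hs
    rw [← h2, ← LinearMap.lTensor_comp_apply]
    have : π ∘ₗ (LinearMap.ker π).subtype = 0 := by
      ext x
      exact x.2
    rw [this, LinearMap.lTensor_zero, LinearMap.zero_apply]
  rw [mu_eq] at hmu
  exact Function.Injective.of_comp hmu

theorem one_tmul_eq_zero_iff (I : Ideal R) {M : Type v} [AddCommGroup M]
    [Module R M] (f : M) : ((1 : R ⧸ I) ⊗ₜ[R] f = 0) ↔ f ∈ (I • ⊤ : Submodule R M) := by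
  rw [← (TensorProduct.quotTensorEquivQuotSMul M I).map_eq_zero_iff,
    TensorProduct.quotTensorEquivQuotSMul_mk_one_tmul, Submodule.Quotient.mk_eq_zero]

theorem exists_one_tmul (I : Ideal R) {M : Type v} [AddCommGroup M]
    [Module R M] (y : (R ⧸ I) ⊗[R] M) : ∃ k : M, y = (1 : R ⧸ I) ⊗ₜ[R] k := by
  obtain ⟨k, hk⟩ := Submodule.Quotient.mk_surjective _ (TensorProduct.quotTensorEquivQuotSMul M I y)
  refine ⟨k, ?_⟩
  apply (TensorProduct.quotTensorEquivQuotSMul M I).injective
  rw [← hk, TensorProduct.quotTensorEquivQuotSMul_mk_one_tmul]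

end Groth.Agent.Helper7.FlatQuot
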