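import Mathlib

set_option autoImplicit false

open TensorProduct

universe u

namespace Groth.Agent.Helper7.PrincipalParts

variable (R : Type u) [CommRing R] (S : Type u) [CommRing S] [Algebra R S] (S' : Type u)
  [CommRing S'] [Algebra R S'] [Algebra S S'] [IsScalarTower R S S']

/-- the base change map `S' ⊗ S → S' ⊗ S'` -/
noncomputable abbrev phi : S' ⊗[R] S →ₐ[S'] S' ⊗[R] S' :=
  Algebra.TensorProduct.map (AlgHom.id S' S') (IsScalarTower.toAlgHom R S S')

/-- multiplication `S' ⊗ S' → S'` as a ring map -/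
noncomputable abbrev lm : S' ⊗[R] S' →+* S' :=
  (Algebra.TensorProduct.lmul' R : S' ⊗[R] S' →ₐ[R] S').toRingHom

/-- multiplication `S' ⊗ S → S'` as a ring map -/
noncomputable abbrev muP : S' ⊗[R] S →+* S' := (lm R S').comp (phi R S S').toRingHom

theorem muP_tmul (a : S') (s : S) : muP R S S' (a ⊗ₜ[R] s) = a * algebraMap S S' s := by
  simp [muP, lm, phi]

theorem comap_eq_ker :
    (KaehlerDifferential.ideal R S').comap (phi R S S').toRingHom = RingHom.ker (muP R S S') := by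
  change (RingHom.ker (lm R S')).comap (phi R S S').toRingHom = _
  rw [RingHom.comap_ker]


variable {R S S'}

theorem main [Algebra.FormallyEtale S S'] (k : ℕ) :
    Function.Bijective (Ideal.quotientMap (KaehlerDifferential.ideal R S' ^ (k + 1))
      (Algebra.TensorProduct.map (AlgHom.id S' S') (IsScalarTower.toAlgHom R S S')).toRingHom
      (Ideal.le_comap_pow
        (Algebra.TensorProduct.map (AlgHom.id S' S') (IsScalarTower.toAlgHom R S S')).toRingHom
        (K := KaehlerDifferential.ideal R S') (k + 1))) := by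
  classical
  set J' : Ideal (S' ⊗[R] S') := KaehlerDifferential.ideal R S' with hJ'
  set I : Ideal (S' ⊗[R] S) := J'.comap (phi R S S').toRingHom with hI
  have hIker : I = RingHom.ker (muP R S S') := comap_eq_ker R S S'
  have hJker : J' = RingHom.ker (lm R S') := rfl
  set q : (S' ⊗[R] S) ⧸ I ^ (k + 1) →+* (S' ⊗[R] S') ⧸ J' ^ (k + 1) :=
    Ideal.quotientMap (J' ^ (k + 1)) (phi R S S').toRingHom
      (Ideal.le_comap_pow (phi R S S').toRingHom (K := J') (k + 1)) with hq
  change Function.Bijective q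
  -- the two augmentations
  have hle : I ^ (k + 1) ≤ RingHom.ker (muP R S S') := by
    rw [← hIker]; exact Ideal.pow_le_self (Nat.succ_ne_zero k)
  have hle' : J' ^ (k + 1) ≤ RingHom.ker (lm R S') := by
    rw [← hJker]; exact Ideal.pow_le_self (Nat.succ_ne_zero k)
  let muT : (S' ⊗[R] S) ⧸ I ^ (k + 1) →+* S' :=
    Ideal.Quotient.lift (I ^ (k + 1)) (muP R S S') (fun a ha => hle ha)
  let muT' : (S' ⊗[R] S') ⧸ J' ^ (k + 1) →+* S' :=
    Ideal.Quotient.lift (J' ^ (k + 1)) (lm R S') (fun a ha => hle' ha)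
  have hmuq : ∀ t, muT' (q t) = muT t := by
    intro t
    obtain ⟨p, rfl⟩ := Ideal.Quotient.mk_surjective t
    rfl
  have hpowT : RingHom.ker muT ^ (k + 1) = ⊥ := by
    rw [Ideal.ker_quotient_lift, ← hIker, ← Ideal.map_pow, Ideal.map_quotient_self]
  have hpowT' : RingHom.ker muT' ^ (k + 1) = ⊥ := by
    rw [Ideal.ker_quotient_lift, ← hJker, ← Ideal.map_pow, Ideal.map_quotient_self]
  have hnilT : IsNilpotent (RingHom.ker muT) := ⟨k + 1, hpowT⟩
  have hnilT' : IsNilpotent (RingHom.ker muT') := ⟨k + 1, hpowT'⟩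
  -- the `S`-algebra structures
  let aT : S →+* (S' ⊗[R] S) ⧸ I ^ (k + 1) :=
    (Ideal.Quotient.mk _).comp (Algebra.TensorProduct.includeRight : S →ₐ[R] S' ⊗[R] S).toRingHom
  let aT' : S →+* (S' ⊗[R] S') ⧸ J' ^ (k + 1) :=
    (Ideal.Quotient.mk _).comp
      ((Algebra.TensorProduct.includeRight : S' →ₐ[R] S' ⊗[R] S').toRingHom.comp (algebraMap S S'))
  let algT : Algebra S ((S' ⊗[R] S) ⧸ I ^ (k + 1)) := aT.toAlgebra
  let algT' : Algebra S ((S' ⊗[R] S') ⧸ J' ^ (k + 1)) := aT'.toAlgebra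
  let muTa : ((S' ⊗[R] S) ⧸ I ^ (k + 1)) →ₐ[S] S' :=
    { muT with
      commutes' := fun s => by
        change muP R S S' ((1 : S') ⊗ₜ[R] s) = algebraMap S S' s
        rw [muP_tmul, one_mul] }
  have hsurjT : Function.Surjective muTa := by
    intro x
    refine ⟨Ideal.Quotient.mk _ (x ⊗ₜ[R] (1 : S)), ?_⟩
    change muP R S S' (x ⊗ₜ[R] (1 : S)) = x
    rw [muP_tmul, map_one, mul_one]
  have hnilTa : IsNilpotent (RingHom.ker (muTa : ((S' ⊗[R] S) ⧸ I ^ (k + 1)) →+* S')) := hnilT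
  let ψ : S' →ₐ[S] ((S' ⊗[R] S) ⧸ I ^ (k + 1)) :=
    Algebra.FormallySmooth.liftOfSurjective (AlgHom.id S S') muTa hsurjT hnilTa
  have hψ : ∀ x, muT (ψ x) = x := fun x =>
    Algebra.FormallySmooth.liftOfSurjective_apply (AlgHom.id S S') muTa hsurjT hnilTa x
  have hψS : ∀ s : S, ψ (algebraMap S S' s) = Ideal.Quotient.mk _ ((1 : S') ⊗ₜ[R] s) :=
    fun s => ψ.commutes s
  -- the inverse map
  let ℓ : S' →ₐ[R] ((S' ⊗[R] S) ⧸ I ^ (k + 1)) :=
    (Ideal.Quotient.mkₐ R _).comp (Algebra.TensorProduct.includeLeft : S' →ₐ[R] S' ⊗[R] S)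
  let ψR : S' →ₐ[R] ((S' ⊗[R] S) ⧸ I ^ (k + 1)) :=
    { ψ.toRingHom with
      commutes' := fun r => by
        change ψ (algebraMap R S' r) = _
        rw [IsScalarTower.algebraMap_apply R S S', hψS]
        change _ = Ideal.Quotient.mk _ (algebraMap R (S' ⊗[R] S) r)
        congr 1
        rw [Algebra.TensorProduct.algebraMap_apply, Algebra.algebraMap_eq_smul_one,
          Algebra.algebraMap_eq_smul_one, TensorProduct.tmul_smul, TensorProduct.smul_tmul'] }
  let Θ : S' ⊗[R] S' →ₐ[R] ((S' ⊗[R] S) ⧸ I ^ (k + 1)) := Algebra.TensorProduct.productMap ℓ ψR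
  have hΘ : ∀ a b : S', Θ (a ⊗ₜ[R] b) = Ideal.Quotient.mk _ (a ⊗ₜ[R] (1 : S)) * ψ b := fun a b =>
    Algebra.TensorProduct.productMap_apply_tmul ℓ ψR a b
  have hmuΘ : ∀ u, muT (Θ u) = lm R S' u := by
    intro u
    induction u with
    | zero => simp
    | tmul a b =>
      rw [hΘ, map_mul, hψ]
      change muP R S S' (a ⊗ₜ[R] (1 : S)) * b = _
      rw [muP_tmul, map_one, mul_one]
      simp [lm]
    | add x y hx hy => rw [map_add, map_add, map_add, hx, hy]
  have hΘker : ∀ u ∈ J' ^ (k + 1), Θ u = 0 := by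
    intro u hu
    have h1 : (J' ^ (k + 1)).map Θ.toRingHom ≤ (RingHom.ker muT) ^ (k + 1) := by
      rw [Ideal.map_pow]
      apply Ideal.pow_right_mono
      rw [Ideal.map_le_iff_le_comap]
      intro v hv
      rw [Ideal.mem_comap, RingHom.mem_ker]
      change muT (Θ v) = 0
      rw [hmuΘ]
      exact hv
    rw [hpowT] at h1
    have h2 : Θ u ∈ (J' ^ (k + 1)).map Θ.toRingHom := Ideal.mem_map_of_mem _ hu
    exact (Ideal.mem_bot.mp (h1 h2))
  let Θbar : (S' ⊗[R] S') ⧸ J' ^ (k + 1) →+* (S' ⊗[R] S) ⧸ I ^ (k + 1) :=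
    Ideal.Quotient.lift (J' ^ (k + 1)) Θ.toRingHom hΘker
  have hleft : ∀ t, Θbar (q t) = t := by
    intro t
    obtain ⟨p, rfl⟩ := Ideal.Quotient.mk_surjective t
    change Θ (phi R S S' p) = _
    induction p with
    | zero => simp
    | tmul a s =>
      have h3 : phi R S S' (a ⊗ₜ[R] s) = a ⊗ₜ[R] (algebraMap S S' s) := by simp [phi]
      rw [h3, hΘ, hψS, ← map_mul]
      congr 1
      simp
    | add x y hx hy => rw [map_add, map_add, map_add, hx, hy]
  -- uniqueness of lifts for the right inverse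
  let g₁ : S' →ₐ[S] ((S' ⊗[R] S') ⧸ J' ^ (k + 1)) :=
    { q.comp ψ.toRingHom with
      commutes' := fun s => by
        change q (ψ (algebraMap S S' s)) = _
        rw [hψS]
        change Ideal.Quotient.mk _ (phi R S S' ((1 : S') ⊗ₜ[R] s)) = _
        have h3 : phi R S S' ((1 : S') ⊗ₜ[R] s) = (1 : S') ⊗ₜ[R] (algebraMap S S' s) := by
          simp [phi]
        rw [h3]
        rfl }
  let g₂ : S' →ₐ[S] ((S' ⊗[R] S') ⧸ J' ^ (k + 1)) :=
    { (Ideal.Quotient.mk (J' ^ (k + 1))).comp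
        (Algebra.TensorProduct.includeRight : S' →ₐ[R] S' ⊗[R] S').toRingHom with
      commutes' := fun s => rfl }
  have hg : g₁ = g₂ := by
    apply Algebra.FormallyUnramified.ext' muT' hnilT' g₁ g₂
    intro x
    change muT' (q (ψ x)) = lm R S' ((1 : S') ⊗ₜ[R] x)
    rw [hmuq, hψ]
    simp [lm]
  have hqψ : ∀ b, q (ψ b) = Ideal.Quotient.mk _ ((1 : S') ⊗ₜ[R] b) := fun b =>
    congrArg (fun g => g b) hg
  have hright : ∀ t', q (Θbar t') = t' := by
    intro t'
    obtain ⟨u, rfl⟩ := Ideal.Quotient.mk_surjective t'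
    change q (Θ u) = _
    induction u with
    | zero => simp
    | tmul a b =>
      rw [hΘ, map_mul, hqψ]
      change Ideal.Quotient.mk _ (phi R S S' (a ⊗ₜ[R] (1 : S))) * _ = _
      have h3 : phi R S S' (a ⊗ₜ[R] (1 : S)) = a ⊗ₜ[R] (1 : S') := by simp [phi]
      rw [h3, ← map_mul]
      congr 1
      simp
    | add x y hx hy => rw [map_add, map_add, map_add, hx, hy]
  exact ⟨Function.LeftInverse.injective hleft, Function.RightInverse.surjective hright⟩

end Groth.Agent.Helper7.PrincipalParts
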