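import Mathlib
import Groth.Agent.Lib.Helper7.CAlg.AwayNbhd

/-!
# Quasi-finite principal open neighbourhoods (via Zariski's main theorem)
-/

namespace Groth.Agent.Helper7.QuasiFiniteNbhd

open PrimeSpectrum

theorem exists_notMem_quasiFinite_away {A R : Type*} [CommRing A] [CommRing R] [Algebra A R]
    [Algebra.FiniteType A R] (p : Ideal R) [p.IsPrime] [Algebra.QuasiFiniteAt A p] :
    ∃ r ∉ p, Algebra.QuasiFinite A (Localization.Away r) := by
  obtain ⟨S', hS', r, hrp, H⟩ :=
    Algebra.QuasiFiniteAt.exists_fg_and_exists_notMem_and_awayMap_bijective (R := A) p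
  have : Module.Finite A S' := ⟨(Submodule.fg_top _).mpr hS'⟩
  have : Algebra.QuasiFinite A (Localization.Away r) := .trans _ S' _
  have : Algebra.QuasiFinite A (Localization.Away r.1) :=
    .of_surjective_algHom (Localization.awayMapₐ S'.val r) H.2
  exact ⟨r.1, hrp, this⟩

/-- If `g` lies in the ideal generated by finitely many `r` with `R_r` quasi-finite over `A`,
then `R_g` is quasi-finite over `A`. -/
theorem quasiFinite_away_of_mem_span {A R : Type*} [CommRing A] [CommRing R] [Algebra A R]
    [Algebra.FiniteType A R] (T : Finset R)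
    (hT : ∀ r ∈ T, Algebra.QuasiFinite A (Localization.Away r)) (g : R)
    (hg : g ∈ Ideal.span (T : Set R)) : Algebra.QuasiFinite A (Localization.Away g) := by
  have hft : Algebra.FiniteType A (Localization.Away g) :=
    have : Algebra.FiniteType R (Localization.Away g) := IsLocalization.finiteType_of_monoid_fg
      (Submonoid.powers g) _
    .trans ‹Algebra.FiniteType A R› this
  rw [Algebra.QuasiFinite.iff_finite_comap_preimage_singleton]
  intro x
  let φ := comap (algebraMap R (Localization.Away g))
  have hφ : Function.Injective φ :=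
    PrimeSpectrum.localization_comap_injective (Localization.Away g) (Submonoid.powers g)
  have hfin : (⋃ r ∈ T, comap (algebraMap R (Localization.Away r)) ''
      (comap (algebraMap A (Localization.Away r)) ⁻¹' {x})).Finite := by
    refine Set.Finite.biUnion T.finite_toSet (fun r hr => Set.Finite.image _ ?_)
    have := hT r hr
    exact Algebra.QuasiFinite.finite_comap_preimage_singleton x
  refine Set.Finite.of_finite_image (Set.Finite.subset hfin ?_) hφ.injOn
  rintro _ ⟨q, hq, rfl⟩
  have hgq : g ∉ (φ q).asIdeal := by
    intro hmem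
    have h1 : algebraMap R (Localization.Away g) g ∈ q.asIdeal := hmem
    exact q.2.ne_top (Ideal.eq_top_of_isUnit_mem _ h1
      (IsLocalization.Away.algebraMap_isUnit g))
  have : ∃ r ∈ T, r ∉ (φ q).asIdeal := by
    by_contra hcon
    push Not at hcon
    exact hgq ((Ideal.span_le.mpr fun r hr => hcon r hr) hg)
  obtain ⟨r, hrT, hrq⟩ := this
  have hrange : φ q ∈ Set.range (comap (algebraMap R (Localization.Away r))) := by
    rw [PrimeSpectrum.localization_away_comap_range (Localization.Away r) r]
    exact hrq
  obtain ⟨q'', hq''⟩ := hrange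
  simp only [Set.mem_iUnion]
  refine ⟨r, hrT, q'', ?_, hq''⟩
  simp only [Set.mem_preimage, Set.mem_singleton_iff] at hq ⊢
  rw [← hq]
  have e1 : comap (algebraMap A (Localization.Away r)) q''
      = comap (algebraMap A R) (comap (algebraMap R (Localization.Away r)) q'') := by
    rw [← PrimeSpectrum.comap_comp_apply, ← IsScalarTower.algebraMap_eq]
  have e2 : comap (algebraMap A (Localization.Away g)) q
      = comap (algebraMap A R) (comap (algebraMap R (Localization.Away g)) q) := by
    rw [← PrimeSpectrum.comap_comp_apply, ← IsScalarTower.algebraMap_eq]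
  rw [e1, e2, hq'']

/-- If `R` is quasi-finite over `A` at all primes containing `J`, some `R_g` with `g ≡ 1 mod J`
is quasi-finite over `A`. -/
theorem exists_quasiFinite_away {A R : Type*} [CommRing A] [CommRing R] [Algebra A R]
    [Algebra.FiniteType A R] (J : Ideal R)
    (h : ∀ (p : Ideal R) [p.IsPrime], J ≤ p → Algebra.QuasiFiniteAt A p) :
    ∃ g : R, 1 - g ∈ J ∧ Algebra.QuasiFinite A (Localization.Away g) := by
  classical
  let T : Set R := {r | Algebra.QuasiFinite A (Localization.Away r)}
  have h1 : J ⊔ Ideal.span T = ⊤ := by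
    by_contra hne
    obtain ⟨m, hm, hle⟩ := Ideal.exists_le_maximal _ hne
    have hmp : m.IsPrime := hm.isPrime
    have := h m (le_sup_left.trans hle)
    obtain ⟨r, hr, hrq⟩ := exists_notMem_quasiFinite_away (A := A) m
    exact hr (hle (Ideal.mem_sup_right (Ideal.subset_span hrq)))
  obtain ⟨x, hx, g, hg, hxg⟩ := Submodule.mem_sup.mp ((Ideal.eq_top_iff_one _).mp h1)
  obtain ⟨T', hT'T, hgT'⟩ := Submodule.mem_span_finite_of_mem_span hg
  refine ⟨g, ?_, quasiFinite_away_of_mem_span T' (fun r hr => hT'T hr) g hgT'⟩
  have : 1 - g = x := by rw [← hxg]; ring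
  rw [this]; exact hx

end Groth.Agent.Helper7.QuasiFiniteNbhd
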